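import Mathlib
import Cfsg.Prelude.Def_CaseTheorems
import Cfsg.Prelude.Def_Involutions

/-! Definitions for simple groups of order `9 * 2 ^ a * q ^ b` -/

set_option autoImplicit false

namespace Cfsg.Agent.C33

open Subgroup

/-- the conclusion: `A₆`, `L₂(8)` or `L₂(17)` -/
def Concl (G : Type*) [Group G] : Prop :=
  Nonempty (G ≃* ↥(alternatingGroup (Fin 6))) ∨
    (∃ (F : Type) (_ : Field F) (_ : Fintype F), Fintype.card F = 8 ∧
      Nonempty (G ≃* Matrix.ProjectiveSpecialLinearGroup (Fin 2) F)) ∨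
    Nonempty (G ≃* Matrix.ProjectiveSpecialLinearGroup (Fin 2) (ZMod 17))

/-- the order condition -/
structure Od (G : Type*) [Group G] (q a b : ℕ) : Prop where
  hq : q.Prime
  hq2 : q ≠ 2
  hq3 : q ≠ 3
  card : Nat.card G = 9 * 2 ^ a * q ^ b

/-- `Q` has index 2 in the 2-group `T`, `m` has order 3, is fixed point free on `Q` and inverted
modulo `Q` by the elements of `T` outside `Q` -/
structure PS {G : Type*} [Group G] (Q T : Subgroup G) (m : G) : Prop where
  two : IsPGroup 2 T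
  le : Q ≤ T
  idx : Q.relIndex T = 2
  ne : Q ≠ ⊥
  m3 : m ^ 3 = 1
  nm : ∀ x ∈ Q, m * x * m⁻¹ ∈ Q
  fpf : ∀ x ∈ Q, m * x * m⁻¹ = x → x = 1
  inv : ∀ y ∈ T, y ∉ Q → y * m * y⁻¹ * m ∈ Q

/-- `D` is invariant under conjugation by `g` -/
def Iv {G : Type*} [Group G] (g : G) (D : Subgroup G) : Prop := ∀ x ∈ D, g * x * g⁻¹ ∈ D

end Cfsg.Agent.C33
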