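import Cfsg.Agent.C33.K

/-! A `2`-group with a fixed point free automorphism of order `3`, moved inside a group containing it
with index `2` -/

set_option autoImplicit false

namespace Cfsg.Agent.C33

open Subgroup
open scoped commutatorElement

variable {G : Type*} [Group G] [Finite G] {Q T W D Y H K : Subgroup G} {m a b c g y : G}

theorem cm (H K : Subgroup G) : Nat.card ↥(H ⊓ K) * H.relIndex K = Nat.card K := by
  rw [relIndex, ← (H.subgroupOf K).card_mul_index, ← inf_subgroupOf_right,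
    Nat.card_congr (subgroupOfEquivOfLe (inf_le_right : H ⊓ K ≤ K)).toEquiv]

theorem cm' (h : H ≤ K) : Nat.card H * H.relIndex K = Nat.card K := by
  rw [← cm H K, inf_eq_left.2 h]

theorem Iv.nm (h : Iv g D) : g ∈ normalizer (D : Set G) := mem_normalizer_fintype h

omit [Finite G] in
theorem iv_of (h : g ∈ normalizer (D : Set G)) : Iv g D := fun x hx => (mem_normalizer_iff.1 h x).1 hx

theorem Iv.inv (h : Iv g D) : Iv g⁻¹ D := iv_of (inv_mem h.nm)

theorem Iv.cen (h : Iv g D) : Iv g (centralizer (D : Set G)) := fun x hx => mem_centralizer_iff.2 fun d hd => by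
  have := mem_centralizer_iff.1 hx _ (h.inv d hd)
  calc d * (g * x * g⁻¹) = g * ((g⁻¹ * d * g⁻¹⁻¹) * x) * g⁻¹ := by group
    _ = g * x * g⁻¹ * d := by rw [this]; group

omit [Finite G] in
theorem Iv.inf (h : Iv g D) (h' : Iv g W) : Iv g (D ⊓ W) := fun x hx => ⟨h x hx.1, h' x hx.2⟩

omit [Finite G] in
theorem iv_self (h : g ∈ D) : Iv g D := fun _ hx => mul_mem (mul_mem h hx) (inv_mem h)

omit [Finite G] in
theorem ri2 (h : ∀ a ∈ K, ∀ b ∈ K, a ∉ H → b ∉ H → a * b ∈ H) : H.relIndex K ≤ 2 := by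
  refine Nat.le_of_dvd two_pos (relIndex_dvd_two_iff.2 ?_)
  by_cases e : ∃ a ∈ K, a ∉ H
  · obtain ⟨a, ha, ha'⟩ := e
    exact ⟨a, ha, fun b hb => or_iff_not_imp_right.2 fun hb' => h b hb a ha hb' ha'⟩
  · push Not at e
    exact ⟨1, one_mem _, fun b hb => .inr (e b hb)⟩

theorem le2 (h : H.relIndex K ≤ 2) : Nat.card K ≤ 2 * Nat.card ↥(H ⊓ K) := by
  rw [← cm H K, mul_comm]; exact Nat.mul_le_mul_right _ h

/-- the centre of `Q` -/
abbrev Z (Q : Subgroup G) : Subgroup G := Q ⊓ centralizer (Q : Set G)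

theorem Z_ne (h2 : IsPGroup 2 Q) (hne : Q ≠ ⊥) : Z Q ≠ ⊥ := by
  haveI := (nontrivial_iff_ne_bot Q).2 hne
  haveI := h2.center_nontrivial
  obtain ⟨⟨z, hz⟩, z1⟩ := exists_ne (1 : center Q)
  intro e
  have : (z : G) ∈ Z Q := ⟨z.2, mem_centralizer_iff.2 fun x hx =>
    congrArg Subtype.val (mem_center_iff.1 hz ⟨x, hx⟩)⟩
  rw [e, mem_bot] at this
  exact z1 (Subtype.ext (Subtype.ext this))

namespace PS

variable (h : PS Q T m)
include h

omit [Finite G] in
theorem mm (ha : a ∈ T) (hb : b ∈ T) : a * b ∈ Q ↔ (a ∈ Q ↔ b ∈ Q) :=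
  mul_mem_iff_of_index_two (H := Q.subgroupOf T) h.idx (a := ⟨a, ha⟩) (b := ⟨b, hb⟩)

omit [Finite G] in
theorem ivT (hg : g ∈ T) : Iv g Q := fun x hx => by
  have hx' := h.le hx
  rw [h.mm (mul_mem hg hx') (inv_mem hg), h.mm hg hx', inv_mem_iff]
  tauto

omit [Finite G] in
theorem q2 : IsPGroup 2 Q := h.two.to_le h.le

theorem ivC {s : Set G} (hs : s ⊆ Q) : Iv m (Q ⊓ centralizer s) := fun x hx =>
  ⟨h.nm x hx.1, mem_centralizer_iff.2 fun d hd => cent h (hs hd) hx.1 (mem_centralizer_iff.1 hx.2 d hd)⟩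

theorem ZT (hg : g ∈ T) : Iv g (Z Q) := (h.ivT hg).inf (h.ivT hg).cen

theorem Zm : Iv m (Z Q) := h.ivC le_rfl

theorem four (hD : D ≤ Q) (iD : Iv m D) (hne : D ≠ ⊥) : 4 ≤ Nat.card D := by
  obtain ⟨n, hn⟩ := (h.q2.to_le hD).exists_card_eq
  by_contra e
  refine hne (idx2 h hD bot_le iD (fun x hx => by simp [mem_bot.1 hx]) ?_).symm
  rw [relIndex_bot_left, hn]
  rw [hn] at e
  match n, e with
  | 0, _ => norm_num
  | 1, _ => norm_num
  | n + 2, e => exact absurd (by rw [pow_add]; have := Nat.one_le_two_pow (n := n); omega) e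

theorem Z4 : 4 ≤ Nat.card (Z Q) := h.four inf_le_left h.Zm (Z_ne h.q2 h.ne)

theorem hz (hy : y ∈ T) (hy' : y ∉ Q) (hC : D ≤ Z Q) (hc : ∀ c ∈ D, c * y = y * c) :
    Nat.card D ^ 2 ≤ Nat.card (Z Q) := by
  have := half h hy hy' inf_le_left bot_le hC h.Zm (fun x hx => by simp [mem_bot.1 hx])
    (fun g _ x hx => by simp [mem_bot.1 hx])
    (fun x hx u hu => mem_bot.2 (commutatorElement_eq_one_iff_mul_comm.2
      (mem_centralizer_iff.1 hx.2 u hu).symm))
    (fun c hc' => mem_bot.2 (commutatorElement_eq_one_iff_mul_comm.2 (hc c hc')))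
  simpa using this

theorem memZ {u : G} (hu : u ∈ Q)
    (hc : ∀ a ∈ Q, ∀ b ∈ Q, u * a ≠ a * u → u * b ≠ b * u → u * (a * b) = a * b * u) : u ∈ Z Q := by
  have := idx2 h le_rfl inf_le_left h.nm (h.ivC (s := {u}) (by simpa)) (ri2 fun a ha b hb ha' hb' =>
    ⟨mul_mem ha hb, mem_centralizer_singleton_iff.2 (hc a ha b hb
      (fun e => ha' ⟨ha, mem_centralizer_singleton_iff.2 e.symm⟩)
      (fun e => hb' ⟨hb, mem_centralizer_singleton_iff.2 e.symm⟩)).symm⟩)
  exact ⟨hu, mem_centralizer_iff.2 fun x hx => mem_centralizer_singleton_iff.1 (this.ge hx).2⟩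

theorem c1 (hg : g ∈ normalizer (T : Set G)) (hn : ¬ Iv g Q) : Z Q = Q ∧ Nat.card Q ≤ 4 := by
  have gT := iv_of hg
  have gT' := iv_of (inv_mem hg)
  simp only [Iv, not_forall] at hn
  obtain ⟨y0, hy0, hy'⟩ := hn
  have hy := gT y0 (h.le hy0)
  set Z' := (Z Q).map (MulAut.conj g).toMonoidHom with hZ'
  have mZ : ∀ u, u ∈ Z' ↔ g⁻¹ * u * g⁻¹⁻¹ ∈ Z Q := fun u => by
    rw [hZ', mem_map]
    exact ⟨fun ⟨x, hx, e⟩ => by rw [← e]; simpa [mul_assoc] using hx, fun e => ⟨_, e, by simp [mul_assoc]⟩⟩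
  have cZ : Nat.card Z' = Nat.card (Z Q) := card_map_of_injective (MulAut.conj g).injective
  have com : ∀ u ∈ Z', ∀ x, g⁻¹ * x * g⁻¹⁻¹ ∈ Q → u * x = x * u := fun u hu x hx => by
    have := mem_centralizer_iff.1 ((mZ u).1 hu).2 _ hx
    calc u * x = g * ((g⁻¹ * u * g⁻¹⁻¹) * (g⁻¹ * x * g⁻¹⁻¹)) * g⁻¹ := by group
      _ = x * u := by rw [← this]; group
  have ZT' : Z' ≤ T := fun u hu => by simpa [mul_assoc] using gT _ (h.le ((mZ u).1 hu).1)
  have s1 : ∀ u ∈ Z', u ∈ Q → u ∈ Z Q := fun u hu hu' => h.memZ hu' fun a ha b hb ea eb =>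
    com u hu _ (by
      have := (h.mm (gT' a (h.le ha)) (gT' b (h.le hb))).2
        (iff_of_false (fun e => ea (com u hu a e)) fun e => eb (com u hu b e))
      simpa [mul_assoc] using this)
  have s2 := h.hz hy hy' (D := Q ⊓ Z') (fun u hu => s1 u hu.2 hu.1) fun u hu =>
    com u hu.2 _ (by simpa [mul_assoc] using hy0)
  have s3 := le2 (H := Q) (K := Z') (ri2 fun a ha b hb ea eb =>
    (h.mm (ZT' ha) (ZT' hb)).2 (iff_of_false ea eb))
  have z4 := h.Z4
  rw [cZ] at s3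
  have s4 : Nat.card (Z Q) ≤ 4 := by nlinarith
  have : ¬ Z' ≤ Q := fun e => by
    rw [inf_eq_right.2 e, cZ] at s2
    nlinarith
  obtain ⟨y', h1, h2⟩ := SetLike.not_le_iff_exists.1 this
  have e : Z Q = Q := gen h (ZT' h1) h2 inf_le_left h.Zm fun x hx => s1 _ (by
    rw [commutatorElement_def]
    refine mul_mem ((mZ _).2 ?_) (inv_mem h1)
    have := h.ZT (gT' x (h.le hx)) _ ((mZ _).1 h1)
    simpa [mul_assoc] using this) (by
    have := mul_mem hx (h.ivT (ZT' h1) _ (inv_mem hx))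
    simpa [commutatorElement_def, mul_assoc] using this)
  exact ⟨e, e ▸ s4⟩

end PS

end Cfsg.Agent.C33
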