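import Mathlib
import Cfsg.Agent.C33.A
import Cfsg.Agent.H4.Burnside
import Cfsg.Agent.H2.Basic

/-! Normal sections of `{2, q}`-subgroups -/

set_option autoImplicit false

namespace Cfsg.Agent.C33

open Subgroup
open scoped commutatorElement

variable {G : Type*} [Group G] [Finite G]

theorem exN (M R : Subgroup G) (hRM : R ≤ M) (hn : M ≤ normalizer (R : Set G)) {q : ℕ}
    (hq : q.Prime) (hq2 : q ≠ 2) (hM : ∃ i j, Nat.card M = 2 ^ i * q ^ j) (hd : q ∣ Nat.card M)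
    (h2 : IsPGroup 2 R) (hmax : ∀ R', R ≤ R' → R' ≤ M → IsPGroup 2 R' →
      M ≤ normalizer (R' : Set G) → R' = R) :
    ∃ N, R ≤ N ∧ N ≠ R ∧ N ≤ M ∧ M ≤ normalizer (N : Set G) ∧ ∀ f ∈ N, ∃ k, f ^ (q ^ k) ∈ R := by
  obtain ⟨i, j, hij⟩ := hM
  haveI := H4.burnside_pq Nat.prime_two hq hij
  haveI := normal_subgroupOf_of_le_normalizer hn
  haveI : Nontrivial (M ⧸ R.subgroupOf M) := QuotientGroup.nontrivial_iff.2 fun h => by
    obtain ⟨n, h1⟩ := IsPGroup.iff_card.1 h2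
    rw [← hRM.antisymm (subgroupOf_eq_top.1 h), h1] at hd
    exact hq2 ((Nat.prime_dvd_prime_iff_eq hq Nat.prime_two).1 (hq.dvd_of_dvd_pow hd))
  obtain ⟨Y, hY, -, y, hy, hYy⟩ := H2.exists_isMinNormal_of_isSolvable (G := M ⧸ R.subgroupOf M)
  haveI := hY.normal
  haveI := Fact.mk hy
  let N := (Y.comap (QuotientGroup.mk' _)).map M.subtype
  have h1 : R ≤ N := fun x hx => ⟨⟨x, hRM hx⟩, QuotientGroup.le_comap_mk' _ Y hx, rfl⟩
  have h3 : N ≠ R := fun h => hY.ne_bot (eq_bot_iff.2 fun x hx => by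
    obtain ⟨x, rfl⟩ := QuotientGroup.mk_surjective x
    exact (QuotientGroup.eq_one_iff _).2 (show (x : G) ∈ R from h ▸ ⟨x, hx, rfl⟩))
  have h4 : M ≤ normalizer (N : Set G) := by
    have := le_normalizer_map (H := Y.comap (QuotientGroup.mk' _)) M.subtype
    rwa [normalizer_eq_top, ← MonoidHom.range_eq_map, range_subtype] at this
  have h5 : ∀ f ∈ N, ∃ k, f ^ (y ^ k) ∈ R := by
    rintro _ ⟨x, hx, rfl⟩
    obtain ⟨k, hk⟩ := hYy ⟨_, hx⟩
    have h5 : QuotientGroup.mk' (R.subgroupOf M) (x ^ y ^ k) = 1 := by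
      rw [map_pow]; exact congrArg Subtype.val hk
    exact ⟨k, (QuotientGroup.eq_one_iff (N := R.subgroupOf M) _).1 h5⟩
  have h6 : y ∣ 2 ^ i * q ^ j := by
    obtain ⟨n, h6⟩ := IsPGroup.iff_card.1 hYy
    have h7 : n ≠ 0 := by
      rintro rfl
      exact hY.ne_bot (card_eq_one.1 (by simpa using h6))
    exact hij ▸ ((h6 ▸ dvd_pow_self y h7).trans (card_subgroup_dvd_card Y)).trans
      (card_quotient_dvd_card _)
  rcases hy.dvd_mul.1 h6 with h7 | h7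
  · obtain rfl := (Nat.prime_dvd_prime_iff_eq hy Nat.prime_two).1 (hy.dvd_of_dvd_pow h7)
    refine absurd (hmax N h1 (map_subtype_le _) (fun f => ?_) h4) h3
    obtain ⟨k, hk⟩ := h5 f f.2
    obtain ⟨l, hl⟩ := h2 ⟨_, hk⟩
    exact ⟨k + l, Subtype.ext (by
      have h8 : ((f : G) ^ 2 ^ k) ^ 2 ^ l = 1 := congrArg Subtype.val hl
      rwa [← pow_mul, ← pow_add] at h8)⟩
  · obtain rfl := (Nat.prime_dvd_prime_iff_eq hy hq).1 (hy.dvd_of_dvd_pow h7)
    exact ⟨N, h1, h3, map_subtype_le _, h4, h5⟩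

theorem invN (R N : Subgroup G) (_hRN : R ≤ N) (hn : N ≤ normalizer (R : Set G)) {a : G}
    (aN : Iv a N) (aR : Iv a R) (a2 : a * a ∈ R) (fp : ∀ f ∈ N, ⁅a, f⁆ ∈ R → f ∈ R) :
    ∀ f ∈ N, a * f * a⁻¹ * f ∈ R := by
  haveI := normal_subgroupOf_of_le_normalizer hn
  let ψ : N →* N := ((MulAut.conj a).toMonoidHom.comp N.subtype).codRestrict N fun x => aN x x.2
  let φ := QuotientGroup.map (R.subgroupOf N) (R.subgroupOf N) ψ fun x hx => aR x hx
  have e : ∀ x : N, φ x = (ψ x : N) := fun _ => rfl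
  have h := MonoidHom.FixedPointFree.coe_eq_inv_of_involutive (φ := φ) (fun g hg => by
    obtain ⟨x, rfl⟩ := QuotientGroup.mk_surjective g
    rw [e, QuotientGroup.eq_iff_div_mem, div_eq_mul_inv] at hg
    exact (QuotientGroup.eq_one_iff _).2 (fp x x.2 hg)) fun g => by
    obtain ⟨x, rfl⟩ := QuotientGroup.mk_surjective g
    rw [e, e, QuotientGroup.eq_iff_div_mem, div_eq_mul_inv]
    have h1 := R.mul_mem a2 ((mem_normalizer_iff.1 (hn x.2) _).1 (R.inv_mem a2))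
    show a * (a * x * a⁻¹) * a⁻¹ * (x : G)⁻¹ ∈ R
    convert h1 using 1; group
  intro f hf
  have h1 := congrFun h ((⟨f, hf⟩ : N) : N ⧸ R.subgroupOf N)
  rw [e, ← QuotientGroup.mk_inv, QuotientGroup.eq_iff_div_mem, div_inv_eq_mul] at h1
  exact h1

theorem sub23 {q a b : ℕ} (o : Od G q a b) (M : Subgroup G) (h : ¬ 3 ∣ Nat.card M) :
    ∃ i j, Nat.card M = 2 ^ i * q ^ j := by
  have h1 := card_subgroup_dvd_card M
  rw [o.card, mul_assoc] at h1
  have h2 : (Nat.card M).Coprime 9 :=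
    ((Nat.Prime.coprime_iff_not_dvd Nat.prime_three).2 h).symm.pow_right 2
  obtain ⟨u, v, hu, hv, h3⟩ := Nat.dvd_mul.1 (h2.dvd_of_dvd_mul_left h1)
  obtain ⟨i, -, rfl⟩ := (Nat.dvd_prime_pow Nat.prime_two).1 hu
  obtain ⟨j, -, rfl⟩ := (Nat.dvd_prime_pow o.hq).1 hv
  exact ⟨i, j, h3.symm⟩

theorem nct {q a b : ℕ} (o : Od G q a b)
    (h6 : ∀ t : G, orderOf t = 2 → ¬ 3 ∣ Nat.card (centralizer ({t} : Set G))) :
    ¬ Cfsg.IsComponentType G := by
  rintro ⟨t, ht, K, -, h1, h2⟩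
  obtain ⟨i, j, h3⟩ := sub23 o _ (h6 t ht)
  haveI := H4.burnside_pq Nat.prime_two o.hq h3
  haveI : Nontrivial K := (QuotientGroup.mk'_surjective (center K)).nontrivial
  exact (Group.IsSolvable.commutator_lt_top_of_nontrivial K).ne h1.commutator_eq_top

end Cfsg.Agent.C33
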