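import Cfsg.Agent.C33.A
import Cfsg.Agent.S0665
import Cfsg.Agent.H10.Cores
import Cfsg.Agent.H1.Basic

/-! Characteristic two subgroups and a stabilizer lemma. -/

set_option autoImplicit false

namespace Cfsg.Agent.C33

open Subgroup

variable {G : Type*} [Group G]

namespace PW

theorem two_odd {R : Subgroup G} (hR : IsPGroup 2 R) {c : G} (hc : c ∈ R) {m : ℕ} (hm : Odd m)
    (e : c ^ m = 1) : c = 1 := by
  obtain ⟨k, hk⟩ := hR ⟨c, hc⟩
  have h1 : c ^ 2 ^ k = 1 := congrArg Subtype.val hk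
  exact orderOf_eq_one_iff.1 (Nat.eq_one_of_dvd_coprimes (hm.coprime_two_left.pow_left k)
    (orderOf_dvd_of_pow_eq_one h1) (orderOf_dvd_of_pow_eq_one e))

theorem stepL {y r c : G} (e : y * r = c * r * y) (hc : y * c = c * y) (n : ℕ) :
    y ^ n * r = c ^ n * r * y ^ n := by
  induction n with
  | zero => simp
  | succ n ih =>
    have h1 : y * c ^ n = c ^ n * y := ((show Commute y c from hc).pow_right n).eq
    calc y ^ (n + 1) * r = y * (y ^ n * r) := by rw [pow_succ', mul_assoc]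
      _ = y * c ^ n * r * y ^ n := by rw [ih]; group
      _ = c ^ n * (y * r) * y ^ n := by rw [h1]; group
      _ = c ^ (n + 1) * r * y ^ (n + 1) := by rw [e, pow_succ, pow_succ']; group

theorem stepR {y r c : G} (e : y * r = r * c * y) (hc : y * c = c * y) (n : ℕ) :
    y ^ n * r = r * c ^ n * y ^ n := by
  induction n with
  | zero => simp
  | succ n ih =>
    have h1 : y * c ^ n = c ^ n * y := ((show Commute y c from hc).pow_right n).eq
    calc y ^ (n + 1) * r = y * (y ^ n * r) := by rw [pow_succ', mul_assoc]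
      _ = y * r * c ^ n * y ^ n := by rw [ih]; group
      _ = r * c * (y * c ^ n) * y ^ n := by rw [e]; group
      _ = r * c ^ (n + 1) * y ^ (n + 1) := by rw [h1, pow_succ', pow_succ']; group

theorem iv_pow {f : G} {R : Subgroup G} (h : Iv f R) (n : ℕ) : Iv (f ^ n) R := by
  induction n with
  | zero => intro x hx; simpa using hx
  | succ n ih =>
    intro x hx
    have := h _ (ih x hx)
    rwa [show f * (f ^ n * x * (f ^ n)⁻¹) * f⁻¹ = f ^ (n + 1) * x * (f ^ (n + 1))⁻¹ by rw [pow_succ']; group] at this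

end PW

open PW

variable [Finite G]

theorem exW (D : Subgroup G) (hD : IsPGroup 2 D) (hne : D ≠ ⊥) :
    ∃ W : Subgroup G, W ≤ D ∧ W ≠ ⊥ ∧ normalizer (D : Set G) ≤ normalizer (W : Set G) ∧
      ∀ H : Subgroup G, D ≤ H → Odd (D.relIndex H) → ¬ 3 ∣ Nat.card H → Cfsg.IsOfCharacteristicTwo H →
        H ≤ normalizer (W : Set G) := by
  haveI : Fact (Nat.Prime 2) := ⟨Nat.prime_two⟩
  haveI : Nontrivial D := (nontrivial_iff_ne_bot D).2 hne
  obtain ⟨W, h0, hch, hW⟩ := S0665.result hD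
  refine ⟨W.map D.subtype, map_subtype_le W, fun e => h0 ((map_eq_bot_iff_of_injective _ D.subtype_injective).1 e),
    H1.normalizer_le_normalizer_map_subtype_of_characteristic D W, fun H hDH ho h3 hc => ?_⟩
  have hp : IsPGroup 2 (D.subgroupOf H) := hD.of_equiv (subgroupOfEquivOfLe hDH).symm
  have hn := hW H (inclusion hDH) (inclusion_injective hDH)
    ⟨hp.toSylow (Odd.not_two_dvd_nat ho), (inclusion_range hDH).symm⟩ ?_ hc
  · rw [← normal_subgroupOf_iff_le_normalizer ((map_subtype_le W).trans hDH)]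
    have e : (W.map D.subtype).subgroupOf H = W.map (inclusion hDH) := by
      rw [← subtype_comp_inclusion hDH, ← map_map, subgroupOf, comap_map_eq_self_of_injective H.subtype_injective]
    rwa [e]
  · rintro ⟨K, R, hR, ⟨e⟩⟩
    refine h3 (Dvd.dvd.trans ?_ ((card_quotient_dvd_card (R.subgroupOf K)).trans (card_subgroup_dvd_card K)))
    rw [Nat.card_congr e.toEquiv, Nat.card_perm, Nat.card_fin]
    decide

theorem ch2 (H R : Subgroup G) (hR : IsPGroup 2 R) (hn : H ≤ normalizer (R : Set G))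
    (hRH : R ≤ normalizer (H : Set G)) (hc : ∀ x ∈ H, (∀ r ∈ R, x * r = r * x) → x ∈ R) :
    Cfsg.IsOfCharacteristicTwo H := by
  haveI : (Cfsg.pCore 2 H).Normal := inferInstance
  refine H10.le_pCore fun x => ?_
  obtain ⟨k, m, hm, e⟩ := Nat.exists_eq_two_pow_mul_odd (orderOf_pos x).ne'
  refine ⟨k, ?_⟩
  set y := x ^ 2 ^ k with hy
  have hym : y ^ m = 1 := by rw [hy, ← pow_mul, ← e, pow_orderOf_eq_one]
  have hym' : ((y : H) : G) ^ m = 1 := congrArg (fun a : centralizer (Cfsg.pCore 2 H : Set H) => ((a : H) : G)) hym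
  have hle : R.subgroupOf H ≤ Cfsg.pCore 2 H := by
    haveI : (R.subgroupOf H).Normal := normal_subgroupOf_of_le_normalizer hn
    exact H10.le_pCore (hR.comap_subtype)
  have hcen : ∀ r ∈ R, ((y : H) : G) * r = r * ((y : H) : G) := fun r hr => by
    have c1 : ((y : H) : G) * r * ((y : H) : G)⁻¹ * r⁻¹ ∈ R :=
      mul_mem ((mem_normalizer_iff.1 (hn (y : H).2) r).1 hr) (inv_mem hr)
    have c2 : ((y : H) : G) * r * ((y : H) : G)⁻¹ * r⁻¹ ∈ H := by
      have := mul_mem (y : H).2 ((mem_normalizer_iff.1 (hRH hr) _).1 (inv_mem (y : H).2))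
      simpa only [mul_assoc] using this
    have c3 := congrArg Subtype.val (y.2 ⟨_, c2⟩ (hle c1))
    have c4 := stepL (y := ((y : H) : G)) (r := r) (c := ((y : H) : G) * r * ((y : H) : G)⁻¹ * r⁻¹)
      (by group) c3.symm m
    rw [hym', one_mul, mul_one, eq_comm, mul_eq_right] at c4
    have := two_odd hR c1 hm c4
    rw [mul_inv_eq_one, mul_inv_eq_iff_eq_mul] at this
    exact this
  exact Subtype.ext (Subtype.ext (two_odd hR (hc _ (y : H).2 hcen) hm hym'))

omit [Finite G] in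
theorem ch2' (H : Subgroup G) (h : Cfsg.IsOfCharacteristicTwo H) :
    ∃ R : Subgroup G, R ≤ H ∧ IsPGroup 2 R ∧ H ≤ normalizer (R : Set G) ∧
      ∀ x ∈ H, (∀ r ∈ R, x * r = r * x) → x ∈ R := by
  refine ⟨H10.OpOf 2 H, H10.OpOf_le, H10.OpOf_isPGroup, H10.le_normalizer_OpOf le_normalizer, fun x hx e => ?_⟩
  exact ⟨⟨x, hx⟩, h fun r hr => Subtype.ext (e r ⟨r, hr, rfl⟩).symm, rfl⟩

set_option linter.unusedVariables false in
theorem stab (R R2 : Subgroup G) (hR : IsPGroup 2 R) (h2 : R2 ≤ R) (hi : R2.relIndex R ≤ 4)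
    (hs : ∀ r ∈ R, r * r ∈ R2) {f : G} {q k : ℕ} (hq : q.Prime) (h5 : 5 ≤ q) (hf : f ^ (q ^ k) = 1)
    (fn : Iv f R) (hc : ∀ r ∈ R2, f * r = r * f) : ∀ r ∈ R, f * r = r * f := by
  intro r hr
  have key : ∀ i d : ℕ, 1 ≤ d → d ≤ 4 →
      (f ^ i * r * (f ^ i)⁻¹)⁻¹ * (f ^ (i + d) * r * (f ^ (i + d))⁻¹) ∈ R2 → f * r = r * f := by
    intro i d d1 d4 m
    have e1 := ((show Commute f _ from hc _ m).pow_left i).eq
    have m' : r⁻¹ * (f ^ d * r * (f ^ d)⁻¹) ∈ R2 := by
      have : r⁻¹ * (f ^ d * r * (f ^ d)⁻¹) = (f ^ i)⁻¹ *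
          (((f ^ i * r * (f ^ i)⁻¹)⁻¹ * (f ^ (i + d) * r * (f ^ (i + d))⁻¹)) * f ^ i) := by
        rw [pow_add, mul_inv_rev (f ^ i) (f ^ d), ((Commute.refl f).pow_pow d i).inv_inv.eq]; group
      rw [this, ← e1, inv_mul_cancel_left]
      exact m
    have c4 := stepR (y := f ^ d) (r := r) (c := r⁻¹ * (f ^ d * r * (f ^ d)⁻¹)) (by group)
      ((show Commute f _ from hc _ m').pow_left d).eq (q ^ k)
    rw [← pow_mul, mul_comm d, pow_mul, hf, one_pow, one_mul, mul_one, eq_comm, mul_eq_left] at c4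
    have c5 := two_odd hR (h2 m') ((hq.odd_of_ne_two (by omega)).pow) c4
    rw [inv_mul_eq_one, eq_comm, mul_inv_eq_iff_eq_mul] at c5
    have hco : d.Coprime (orderOf f) :=
      (((Nat.coprime_of_lt_prime (by omega) (by omega) hq).symm).pow_right k).coprime_dvd_right
        (orderOf_dvd_of_pow_eq_one hf)
    obtain ⟨n, hn⟩ := exists_pow_eq_self_of_coprime hco
    rw [← hn]
    exact ((show Commute (f ^ d) r from c5).pow_left n).eq
  haveI := Fintype.ofFinite (R ⧸ R2.subgroupOf R)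
  obtain ⟨i, j, hij, e⟩ := Fintype.exists_ne_map_eq_of_card_lt
    (fun i : Fin 5 => ((⟨_, iv_pow fn i r hr⟩ : R) : R ⧸ R2.subgroupOf R))
    (by rw [Fintype.card_fin, ← Nat.card_eq_fintype_card]; exact Nat.lt_succ_of_le hi)
  have hne : (i : ℕ) ≠ j := fun h => hij (Fin.ext h)
  have hi5 := i.2
  have hj5 := j.2
  rcases Nat.lt_or_gt_of_ne hne with h | h
  · refine key i (j - i) (by omega) (by omega) ?_
    rw [Nat.add_sub_cancel' h.le]
    exact mem_subgroupOf.1 (QuotientGroup.eq.1 e)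
  · refine key j (i - j) (by omega) (by omega) ?_
    rw [Nat.add_sub_cancel' h.le]
    exact mem_subgroupOf.1 (QuotientGroup.eq.1 e.symm)

end Cfsg.Agent.C33
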