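import Cfsg.Agent.C33.C1
import Cfsg.Agent.C33.W
import Cfsg.Agent.C33.N

/-! Normal subgroups of a `{2, q}`-group sharing a Sylow `2`-subgroup with `Q.S₃` -/

set_option autoImplicit false

namespace Cfsg.Agent.C33

open Subgroup
open scoped commutatorElement

variable {G : Type*} [Group G] [Finite G] {Q S D Y K M M0 R R0 : Subgroup G} {m a c g y : G} {q : ℕ}

theorem rel_sup (hn : S ≤ normalizer (K : Set G)) : S.relIndex K = S.relIndex (S ⊔ K) := by
  haveI : (K.subgroupOf (S ⊔ K)).Normal := normal_subgroupOf_of_le_normalizer (sup_le hn le_normalizer)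
  have e := relIndex_sup_right (S.subgroupOf (S ⊔ K)) (K.subgroupOf (S ⊔ K))
  rw [← subgroupOf_sup le_sup_left le_sup_right, relIndex_subgroupOf le_rfl,
    relIndex_subgroupOf le_sup_left] at e
  have h1 := cm' (le_sup_right : K ≤ S ⊔ K)
  have h2 := cm' (le_sup_left : S ≤ S ⊔ K)
  have h3 := cm S K
  have h4 := cm K S
  rw [inf_comm] at h4
  have p1 : 0 < Nat.card ↥(S ⊓ K) := Nat.card_pos
  have p2 : 0 < K.relIndex S := Nat.pos_of_ne_zero index_ne_zero_of_finite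
  rw [e, ← h3] at h1
  rw [← h4, ← h1] at h2
  refine Nat.eq_of_mul_eq_mul_left (Nat.mul_pos p1 p2) ?_
  rw [h2]; ring

theorem odd_rel (hS : Odd S.index) (hn : S ≤ normalizer (K : Set G)) : Odd (S.relIndex K) :=
  (rel_sup hn).symm ▸ hS.of_dvd_nat (relIndex_dvd_index_of_le le_sup_left)

theorem le_of_odd (hR : IsPGroup 2 R) (ho : Odd (S.relIndex R)) : R ≤ S := by
  obtain ⟨n, hn⟩ := hR.exists_card_eq
  obtain ⟨k, -, hk⟩ := (Nat.dvd_prime_pow Nat.prime_two).1 (hn ▸ relIndex_dvd_card S R)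
  rw [hk] at ho
  cases k with
  | zero => exact relIndex_eq_one.1 hk
  | succ k => exact absurd ho (by simp [Nat.even_pow])

theorem frat (hK : K ≤ M) (hn : M ≤ normalizer (K : Set G)) (hD : D ≤ K) (h2 : IsPGroup 2 D)
    (ho : Odd (D.relIndex K)) : K.relIndex M ∣ Nat.card (normalizer (D : Set G)) := by
  haveI : (K.subgroupOf M).Normal := normal_subgroupOf_of_le_normalizer hn
  have e := Sylow.normalizer_sup_eq_top (IsPGroup.toSylow
    (P := (D.subgroupOf M).subgroupOf (K.subgroupOf M)) (h2.comap_subtype.comap_subtype) (by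
      rw [← relIndex, relIndex_subgroupOf hK]
      exact fun e => Nat.not_even_iff_odd.2 ho (even_iff_two_dvd.2 e)))
  erw [IsPGroup.toSylow_coe] at e
  rw [subgroupOf_map_subtype,
    inf_eq_left.2 (show D.subgroupOf M ≤ K.subgroupOf M from comap_mono hD),
    ← subgroupOf_normalizer_eq (hD.trans hK)] at e
  have := relIndex_sup_right ((normalizer (D : Set G)).subgroupOf M) (K.subgroupOf M)
  rw [e, relIndex_top_right] at this
  rw [relIndex, this]
  refine (relIndex_dvd_card _ _).trans ?_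
  rw [← inf_subgroupOf_right, Nat.card_congr (subgroupOfEquivOfLe inf_le_right).toEquiv]
  exact card_dvd_of_le inf_le_left

omit [Finite G] in
theorem iv_closure {s : Set G} (h : ∀ x ∈ s, g * x * g⁻¹ ∈ s) : Iv g (closure s) := fun x hx =>
  (closure_le ((closure s).comap (MulAut.conj g).toMonoidHom)).2 (fun y hy => subset_closure (h y hy)) hx

omit [Finite G] in
theorem iv_sup (h : Iv g R) (ha : g * a * g⁻¹ ∈ R ⊔ zpowers a) : Iv g (R ⊔ zpowers a) := fun x hx =>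
  (sup_le (fun y hy => (le_sup_left : R ≤ R ⊔ zpowers a) (h y hy)) (zpowers_le.2 ha) :
    R ⊔ zpowers a ≤ (R ⊔ zpowers a).comap (MulAut.conj g).toMonoidHom) hx

omit [Finite G] in
theorem cop {i j : ℕ} (hi : c ^ i ∈ R) (hj : c ^ j ∈ R) (h : i.Coprime j) : c ∈ R := by
  have := mul_mem (zpow_mem hi (i.gcdA j)) (zpow_mem hj (i.gcdB j))
  rwa [← zpow_natCast, ← zpow_natCast, ← zpow_mul, ← zpow_mul, ← zpow_add, ← Nat.gcd_eq_gcd_ab, h,
    Nat.cast_one, zpow_one] at this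

/-- the amalgam of `Q.S₃` with a `{2, q}`-group `M0` -/
structure Am (Q S M0 R0 : Subgroup G) (m : G) (q : ℕ) : Prop where
  ps : PS Q S m
  syl : Odd S.index
  hq : q.Prime
  h5 : 5 ≤ q
  le : S ≤ M0
  n3 : ¬ 3 ∣ Nat.card M0
  pq : ∀ M ≤ M0, ∃ i j, Nat.card M = 2 ^ i * q ^ j
  dv : q ∣ Nat.card M0
  r2 : IsPGroup 2 R0
  rn : M0 ≤ normalizer (R0 : Set G)
  rc : ∀ x ∈ M0, (∀ r ∈ R0, x * r = r * x) → x ∈ R0
  hP : ∀ D, D ≠ ⊥ → D ≤ Q → S ≤ normalizer (D : Set G) → Iv m D → ¬ q ∣ Nat.card (normalizer (D : Set G))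

namespace Am

variable (h : Am Q S M0 R0 m q)
include h

theorem rS : R0 ≤ S := le_of_odd h.r2 (odd_rel h.syl (h.le.trans h.rn))

theorem lemL (hS : S ≤ M) (hM : M ≤ M0) (hd : q ∣ Nat.card M) (hY : Y ≤ Q)
    (hn : M ≤ normalizer (Y : Set G)) : ¬ S ⊓ centralizer (Y : Set G) ≤ Q := fun e => by
  have hD : Q ⊓ centralizer (Y : Set G) ≠ ⊥ := fun e' => Z_ne h.ps.q2 h.ps.ne
    (eq_bot_iff.2 (e' ▸ inf_le_inf_left _ (centralizer_le hY)))
  have nD : S ≤ normalizer ((Q ⊓ centralizer (Y : Set G) : Subgroup G) : Set G) := fun s hs =>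
    ((h.ps.ivT hs).inf (iv_of (hn (hS hs))).cen).nm
  have n1 : M ≤ normalizer ((M ⊓ centralizer (Y : Set G) : Subgroup G) : Set G) := fun s hs =>
    ((iv_self hs).inf (iv_of (hn hs)).cen).nm
  have l1 : Q ⊓ centralizer (Y : Set G) ≤ M ⊓ centralizer (Y : Set G) :=
    inf_le_inf_right _ (h.ps.le.trans hS)
  have o1 : Odd ((Q ⊓ centralizer (Y : Set G)).relIndex (M ⊓ centralizer (Y : Set G))) := by
    have := odd_rel h.syl (hS.trans n1)
    rwa [← inf_relIndex_right, show S ⊓ (M ⊓ centralizer (Y : Set G)) = Q ⊓ centralizer (Y : Set G) from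
      le_antisymm (fun x hx => ⟨e ⟨hx.1, hx.2.2⟩, hx.2.2⟩) (le_inf (inf_le_left.trans h.ps.le) l1)] at this
  have d2 : IsPGroup 2 ↥(Q ⊓ centralizer (Y : Set G)) := h.ps.q2.to_inf_left
  have q1 : q ∣ Nat.card ↥(M ⊓ centralizer (Y : Set G)) := by
    rw [← cm' (inf_le_left : M ⊓ centralizer (Y : Set G) ≤ M)] at hd
    exact (h.hq.dvd_mul.1 hd).resolve_right fun e' => h.hP _ hD inf_le_left nD (h.ps.ivC hY)
      (e'.trans (frat inf_le_left n1 l1 d2 o1))
  obtain ⟨W, w1, w2, w3, w4⟩ := exW _ d2 hD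
  refine h.hP W w2 (w1.trans inf_le_left) (nD.trans w3) (iv_of (w3 (h.ps.ivC hY).nm))
    (q1.trans (card_dvd_of_le (w4 _ l1 o1 (fun e' => h.n3 (e'.trans
      (card_dvd_of_le (inf_le_left.trans hM)))) (ch2 _ R0 h.r2 (inf_le_left.trans (hM.trans h.rn))
      (h.rS.trans (hS.trans n1)) fun x hx => h.rc x (hM hx.1)))))

theorem cenS (hS : S ≤ M) (hM : M ≤ M0) (hd : q ∣ Nat.card M) (hY : Y ≤ Q)
    (hn : M ≤ normalizer (Y : Set G)) : S ≤ centralizer (Y : Set G) := by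
  obtain ⟨y, h0, h3⟩ := SetLike.not_le_iff_exists.1 (h.lemL hS hM hd hY hn)
  obtain ⟨h1, h2⟩ := mem_inf.1 h0
  have e := gen h.ps h1 h3 inf_le_left (h.ps.ivC hY) fun x hx => ⟨by
    have := mul_mem hx (h.ps.ivT h1 _ (inv_mem hx))
    simpa [commutatorElement_def, mul_assoc] using this,
    (centralizer (Y : Set G)).mul_mem ((iv_of (hn (hS (h.ps.le hx)))).cen y h2)
      ((centralizer (Y : Set G)).inv_mem h2)⟩
  intro s hs
  by_cases hs' : s ∈ Q
  · exact (e.ge hs').2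
  · simpa using mul_mem (mem_inf.1 (e.ge ((h.ps.mm hs h1).2 (iff_of_false hs' h3)))).2 (inv_mem h2)

end Am

end Cfsg.Agent.C33
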