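import Cfsg.Agent.C33.C2

/-! The amalgam of `Q.S₃` with a `{2, q}`-group forces `Q` to be a four-group -/

set_option autoImplicit false

namespace Cfsg.Agent.C33

open Subgroup
open scoped commutatorElement

variable {G : Type*} [Group G] [Finite G] {Q S M M0 R R0 N : Subgroup G} {m a f w y : G} {q : ℕ}

/-- a member of the family of pairs `(M, R)` -/
def Fam (S M0 R0 : Subgroup G) (q : ℕ) (M R : Subgroup G) : Prop :=
  S ≤ M ∧ M ≤ M0 ∧ q ∣ Nat.card M ∧ R0 ≤ R ∧ R ≤ S ∧ M ≤ normalizer (R : Set G)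

/-- a maximal member, with a normal `q`-section over `R` -/
structure Mx (Q S M0 R0 : Subgroup G) (m : G) (q : ℕ) (M R N : Subgroup G) (f y : G) : Prop where
  am : Am Q S M0 R0 m q
  fam : Fam S M0 R0 q M R
  mx : ∀ M' R', Fam S M0 R0 q M' R' → R ≤ R' → R' = R
  rN : R ≤ N
  nM : N ≤ M
  nN : M ≤ normalizer (N : Set G)
  pw : ∀ f ∈ N, ∃ k, f ^ (q ^ k) ∈ R
  fN : f ∈ N
  fR : f ∉ R
  yR : y ∈ R
  yQ : y ∉ Q

theorem Am.exMx (h : Am Q S M0 R0 m q) : ∃ M R N f y, Mx Q S M0 R0 m q M R N f y := by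
  obtain ⟨⟨M, R⟩, hF, hmax⟩ := Set.exists_max_image
    {p : Subgroup G × Subgroup G | Fam S M0 R0 q p.1 p.2} (fun p => Nat.card p.2) (Set.toFinite _)
    ⟨(M0, R0), h.le, le_rfl, h.dv, le_rfl, h.rS, h.rn⟩
  have mx : ∀ M' R', Fam S M0 R0 q M' R' → R ≤ R' → R' = R := fun M' R' e l =>
    (eq_of_le_of_card_ge l (hmax (M', R') e)).symm
  obtain ⟨h1, h2, h3, h4, h5, h6⟩ : Fam S M0 R0 q M R := hF
  obtain ⟨N, n1, n2, n3, n4, n5⟩ := exN M R (h5.trans h1) h6 h.hq (by have := h.h5; omega) (h.pq M h2) h3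
    (h.ps.two.to_le h5) fun R' a b c d =>
      mx M R' ⟨h1, h2, h3, h4.trans a, le_of_odd c (odd_rel h.syl (h1.trans d)), d⟩ a
  obtain ⟨f, f1, f2⟩ := SetLike.not_le_iff_exists.1 fun e => n2 (le_antisymm e n1)
  have : ¬ R ≤ Q := fun e => by
    have := h.cenS h1 h2 h3 e h6
    have l : S ≤ Q := fun s hs => e (h4 (h.rc s (h.le hs) fun r hr =>
      (mem_centralizer_iff.1 (this hs) r (h4 hr)).symm))
    exact absurd (h.ps.idx.symm.trans (relIndex_eq_one.2 l)) (by norm_num)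
  obtain ⟨y, y1, y2⟩ := SetLike.not_le_iff_exists.1 this
  exact ⟨M, R, N, f, y, h, ⟨h1, h2, h3, h4, h5, h6⟩, mx, n1, n3, n4, n5, f1, f2, y1, y2⟩

namespace Mx

variable (h : Mx Q S M0 R0 m q M R N f y)
include h

omit [Finite G] in
theorem rS : R ≤ S := h.fam.2.2.2.2.1

omit [Finite G] in
theorem ivR {g : G} (hg : g ∈ M) : Iv g R := iv_of (h.fam.2.2.2.2.2 hg)

theorem cen {Y : Subgroup G} (hY : Y ≤ Q) (hn : ∀ g ∈ M, Iv g Y) : S ≤ centralizer (Y : Set G) :=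
  h.am.cenS h.fam.1 h.fam.2.1 h.fam.2.2.1 hY fun g hg => (hn g hg).nm

omit [Finite G] in
theorem cop2 {c : G} {j : ℕ} (hc : c ∈ N) (e : c ^ 2 ^ j ∈ R) : c ∈ R := by
  obtain ⟨k, hk⟩ := h.pw c hc
  exact cop e hk (Nat.Coprime.pow _ _ ((Nat.coprime_primes Nat.prime_two h.am.hq).2
    (by have := h.am.h5; omega)))

omit [Finite G] in
theorem sqQ {r : G} (hr : r ∈ S) : r * r ∈ Q := (h.am.ps.mm hr hr).2 Iff.rfl

theorem comZ {a b : G} (ha : a ∈ R) (hb : b ∈ R) : ⁅a, b⁆ ∈ Z Q := by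
  have l : Subgroup.closure ((fun r => r * r) '' (R : Set G)) ≤ Q :=
    (closure_le _).2 fun _ ⟨r, hr, e⟩ => e ▸ h.sqQ (h.rS hr)
  have c := h.cen l fun g hg => iv_closure fun _ ⟨r, hr, e⟩ => ⟨_, h.ivR hg r hr, by rw [← e]; group⟩
  have : ⁅a, b⁆ ∈ Subgroup.closure ((fun r => r * r) '' (R : Set G)) := by
    rw [show ⁅a, b⁆ = a * a * ((a⁻¹ * b) * (a⁻¹ * b)) * (b⁻¹ * b⁻¹) by
      rw [commutatorElement_def]; group]
    exact mul_mem (mul_mem (subset_closure ⟨a, ha, rfl⟩)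
      (subset_closure ⟨_, mul_mem (inv_mem ha) hb, rfl⟩)) (subset_closure ⟨_, inv_mem hb, rfl⟩)
  exact ⟨l this, mem_centralizer_iff.2 fun x hx =>
    (mem_centralizer_iff.1 (c (h.am.ps.le hx)) _ this).symm⟩

theorem inv (ha : a ∈ Q) (ha' : a ∉ R) (a2 : a * a ∈ R) (hc : ∀ u ∈ Q, ⁅a, u⁆ ∈ R) :
    ∀ g ∈ N, a * g * a⁻¹ * g ∈ R := by
  have aS := h.am.ps.le ha
  have aM := h.fam.1 aS
  have iv : ∀ g ∈ M, ⁅a, g⁆ ∈ R → g ∈ normalizer ((R ⊔ zpowers a : Subgroup G) : Set G) := fun g hg e =>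
    (iv_sup (h.ivR hg) (by
      rw [show g * a * g⁻¹ = ⁅a, g⁆⁻¹ * a by rw [commutatorElement_def]; group]
      exact mul_mem (mem_sup_left (inv_mem e)) (mem_sup_right (mem_zpowers a)))).nm
  have cS : ∀ s ∈ S, ⁅a, s⁆ ∈ R := fun s hs => by
    by_cases hs' : s ∈ Q
    · exact hc s hs'
    · have hu := (h.am.ps.mm hs (inv_mem (h.rS h.yR))).2 (iff_of_false hs' (by simpa using h.yQ))
      rw [show ⁅a, s⁆ = ⁅a, s * y⁻¹⁆ * (s * y⁻¹ * (a * y * a⁻¹ * y⁻¹) * (s * y⁻¹)⁻¹) by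
        simp only [commutatorElement_def]; group]
      exact mul_mem (hc _ hu) (h.ivR (h.fam.1 (h.am.ps.le hu)) _
        (mul_mem (h.ivR aM _ h.yR) (inv_mem h.yR)))
  refine invN R N h.rN (h.nM.trans h.fam.2.2.2.2.2) (iv_of (h.nN aM)) (h.ivR aM) a2 fun g hg e => ?_
  by_contra g'
  refine ha' ((h.mx (M ⊓ normalizer ((R ⊔ zpowers a : Subgroup G) : Set G)) (R ⊔ zpowers a)
    ⟨fun s hs => ⟨h.fam.1 hs, iv s (h.fam.1 hs) (cS s hs)⟩, inf_le_left.trans h.fam.2.1, ?_,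
      h.fam.2.2.2.1.trans le_sup_left, sup_le h.rS (zpowers_le.2 aS), inf_le_right⟩ le_sup_left).le
    (mem_sup_right (mem_zpowers a)))
  refine .trans ?_ (Subgroup.orderOf_dvd_natCard _ (mem_inf.2 ⟨h.nM hg, iv g (h.nM hg) e⟩))
  by_contra e'
  obtain ⟨k, hk⟩ := h.pw g hg
  exact g' (cop hk (by rw [pow_orderOf_eq_one]; exact one_mem _)
    (Nat.Coprime.pow_left _ ((Nat.Prime.coprime_iff_not_dvd h.am.hq).2 e')))

theorem ZR2 (hw : w ∈ Z Q) (w2 : w * w ∈ R) : w ∈ R := by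
  by_contra hw'
  have cw := mem_centralizer_iff.1 (mem_inf.1 hw).2
  have e := h.inv hw.1 hw' w2 (fun u hu => by
    rw [commutatorElement_eq_one_iff_mul_comm.2 (cw u hu).symm]; exact one_mem _) f h.fN
  have fM := h.nM h.fN
  have cN : w * f * w⁻¹ * f⁻¹ ∈ N :=
    mul_mem (iv_of (h.nN (h.fam.1 (h.am.ps.le hw.1))) f h.fN) (inv_mem h.fN)
  obtain ⟨k, hk⟩ := h.pw _ cN
  obtain ⟨j, hj⟩ := h.am.ps.two.to_le h.rS ⟨_, hk⟩
  have hj' : ((w * f * w⁻¹ * f⁻¹) ^ 2 ^ j) ^ q ^ k = 1 := by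
    rw [← pow_mul, mul_comm, pow_mul]; exact congrArg Subtype.val hj
  set Q' := Q.comap (MulAut.conj f⁻¹).toMonoidHom
  have mQ : ∀ x, x ∈ Q' ↔ f⁻¹ * x * f⁻¹⁻¹ ∈ Q := fun x => Iff.rfl
  have fR := h.ivR (inv_mem fM)
  have st := stab R ((Q ⊓ Q') ⊓ R) (h.am.ps.two.to_le h.rS) inf_le_right (by
      rw [inf_relIndex_right]
      exact relIndex_inf_le.trans (Nat.mul_le_mul (m₂ := 2) (n₂ := 2)
        (ri2 fun a ha b hb ea eb => (h.am.ps.mm (h.rS ha) (h.rS hb)).2 (iff_of_false ea eb))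
        (ri2 fun a ha b hb ea eb => by
          rw [mem_comap, map_mul]
          exact (h.am.ps.mm (h.rS (fR a ha)) (h.rS (fR b hb))).2 (iff_of_false ea eb))))
    (fun r hr => mem_inf.2 ⟨mem_inf.2 ⟨h.sqQ (h.rS hr), by
      rw [mem_comap, map_mul]; exact h.sqQ (h.rS (fR r hr))⟩, mul_mem hr hr⟩)
    h.am.hq h.am.h5 hj' (h.ivR (h.nM (pow_mem cN _))) fun r hr => by
      refine (Commute.pow_left ?_ _).eq
      have c1 : Commute w r := (cw r hr.1.1).symm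
      have c2 : Commute (f * w⁻¹ * f⁻¹) r := by
        have := (show Commute w _ from (cw _ ((mQ r).1 hr.1.2)).symm).inv_left.eq
        calc f * w⁻¹ * f⁻¹ * r = f * (w⁻¹ * (f⁻¹ * r * f⁻¹⁻¹)) * f⁻¹ := by group
          _ = r * (f * w⁻¹ * f⁻¹) := by rw [this]; group
      simpa [mul_assoc] using c1.mul_left c2
  have cR := h.cop2 cN (h.fam.2.2.2.1 (h.am.rc _ (h.fam.2.1 (h.nM (pow_mem cN _))) fun r hr =>
    st r (h.fam.2.2.2.1 hr)))
  refine h.fR (h.cop2 (j := 1) h.fN ?_)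
  simpa [mul_assoc, pow_two] using mul_mem (inv_mem cR) e

theorem ZR : Z Q ≤ R := fun w hw => by
  obtain ⟨j, hj⟩ := h.am.ps.q2 ⟨w, hw.1⟩
  have hj' : w ^ 2 ^ j ∈ R := by rw [show w ^ 2 ^ j = 1 from congrArg Subtype.val hj]; exact one_mem _
  clear hj
  induction j with
  | zero => simpa using hj'
  | succ j ih => exact ih (h.ZR2 (pow_mem hw _) (by rwa [pow_succ, pow_mul, pow_two] at hj'))

theorem Zle : Nat.card (Z Q) ≤ 4 := by
  have z4 := h.am.ps.Z4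
  set s : Set G := {e | e ∈ R ∧ ∀ a ∈ R, ∀ b ∈ R, e * a ≠ a * e → e * b ≠ b * e →
    e * (a * b) = a * b * e}
  have sZ : ∀ w ∈ Z Q, w ∈ s := fun w hw => by
    have cw := mem_centralizer_iff.1 (mem_inf.1 hw).2
    exact ⟨h.ZR hw, fun a ha b hb ea eb => (cw _ ((h.am.ps.mm (h.rS ha) (h.rS hb)).2
      (iff_of_false (fun e => ea (cw a e).symm) fun e => eb (cw b e).symm))).symm⟩
  have : ¬ Subgroup.closure s ≤ Q := fun l => by
    have c := h.cen l fun g hg => iv_closure fun e ⟨e1, e2⟩ => ⟨h.ivR hg e e1, fun a ha b hb ea eb => by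
      have k : ∀ x, e * (g⁻¹ * x * g⁻¹⁻¹) = g⁻¹ * x * g⁻¹⁻¹ * e → g * e * g⁻¹ * x = x * (g * e * g⁻¹) :=
        fun x hx => by
          calc g * e * g⁻¹ * x = g * (e * (g⁻¹ * x * g⁻¹⁻¹)) * g⁻¹ := by group
            _ = x * (g * e * g⁻¹) := by rw [hx]; group
      refine k _ ?_
      have := e2 _ (h.ivR (inv_mem hg) a ha) _ (h.ivR (inv_mem hg) b hb) (fun e => ea (k a e))
        fun e => eb (k b e)
      simpa [mul_assoc] using this⟩
    have := h.am.ps.hz (h.rS h.yR) h.yQ le_rfl fun w hw =>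
      mem_centralizer_iff.1 (c (h.rS h.yR)) w (subset_closure (sZ w hw))
    nlinarith
  rw [closure_le, Set.not_subset] at this
  obtain ⟨e, ⟨e1, e2⟩, e3⟩ := this
  have h1 := h.am.ps.hz (h.rS e1) e3 (D := centralizer {e} ⊓ Z Q) inf_le_right fun c hc =>
    mem_centralizer_singleton_iff.1 hc.1
  have h2 := le2 (H := centralizer {e}) (K := Z Q) (ri2 fun a ha b hb ea eb =>
    mem_centralizer_singleton_iff.2 (e2 a (h.ZR ha) b (h.ZR hb)
      (fun e => ea (mem_centralizer_singleton_iff.2 e.symm))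
      fun e => eb (mem_centralizer_singleton_iff.2 e.symm)).symm)
  nlinarith

end Mx

theorem PS.exp2 {T : Subgroup G} (h : PS Q T m) (h4 : Nat.card (Z Q) ≤ 4) (hw : w ∈ Z Q) : w * w = 1 := by
  let K : Subgroup G :=
    { carrier := {w | w ∈ Z Q ∧ w * w = 1}
      one_mem' := ⟨one_mem _, mul_one _⟩
      inv_mem' := fun {x} hx => ⟨inv_mem hx.1, by rw [← mul_inv_rev, hx.2, inv_one]⟩
      mul_mem' := fun {a b} ha hb => ⟨mul_mem ha.1 hb.1, by
        rw [(show Commute a b from mem_centralizer_iff.1 (mem_inf.1 hb.1).2 a ha.1.1).symm.mul_mul_mul_comm,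
          ha.2, hb.2, mul_one]⟩ }
  have l : K ≤ Z Q := fun x hx => hx.1
  obtain ⟨x, hx⟩ := exists_prime_orderOf_dvd_card' (G := Z Q) 2 (by rw [le_antisymm h4 h.Z4]; norm_num)
  have := h.four (l.trans inf_le_left) (D := K) (fun x hx => ⟨h.Zm x hx.1, by
    rw [show m * x * m⁻¹ * (m * x * m⁻¹) = m * (x * x) * m⁻¹ by group, hx.2]; group⟩) fun e => by
      have : (x : G) ∈ K := ⟨x.2, by
        rw [← pow_two, ← hx]; exact congrArg Subtype.val (pow_orderOf_eq_one x)⟩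
      rw [e, mem_bot] at this
      rw [show x = 1 from Subtype.ext this, orderOf_one] at hx
      exact absurd hx (by norm_num)
  exact ((eq_of_le_of_card_ge l (h4.trans this)).ge hw).2

theorem Am.c2 (h0 : Am Q S M0 R0 m q) : Z Q = Q ∧ Nat.card Q ≤ 4 := by
  obtain ⟨M, R, N, f, y, h⟩ := h0.exMx
  have p := h0.ps
  have z4 := h.Zle
  have cZ : ∀ a ∈ Q, ∀ b ∈ Q, ⁅a, b⁆ ∈ Z Q := fun a ha b hb =>
    ⟨Q.mul_mem (Q.mul_mem (Q.mul_mem ha hb) (Q.inv_mem ha)) (Q.inv_mem hb),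
      mem_centralizer_iff.2 fun c hc => (cls2 p ha hb hc).symm⟩
  have iv : ∀ a ∈ Q, a ∉ R → ∀ g ∈ N, a * g * a⁻¹ * g ∈ R := fun a ha ha' =>
    h.inv ha ha' (h.ZR ⟨mul_mem ha ha, mem_centralizer_iff.2 fun b hb => by
      have e1 := p.exp2 z4 (cZ a ha b hb)
      have e2 := cls2 p ha hb ha
      have e3 : a * b = ⁅a, b⁆ * b * a := by rw [commutatorElement_def]; group
      calc b * (a * a) = ⁅a, b⁆ * (⁅a, b⁆ * b * a) * a := by
            rw [← mul_assoc, ← mul_assoc, ← mul_assoc, e1, one_mul]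
        _ = ⁅a, b⁆ * a * (b * a) := by rw [← e3]; group
        _ = a * (⁅a, b⁆ * b * a) := by rw [e2]; group
        _ = a * a * b := by rw [← e3, mul_assoc]⟩) fun u hu => h.ZR (cZ a ha u hu)
  have i2 := le2 (H := R) (K := Q) (ri2 fun a ha b hb ea eb => by
    by_contra e
    refine h.fR (h.cop2 (j := 1) h.fN ?_)
    have := mul_mem (inv_mem (mul_mem (h.ivR (h0.ps.le ha |> h.fam.1) _ (iv b hb eb f h.fN))
      (iv a ha ea _ (inv_mem h.fN)))) (iv _ (mul_mem ha hb) e f h.fN)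
    simpa [mul_assoc, pow_two] using this)
  have hf := half p (h.rS h.yR) h.yQ le_rfl (le_inf h.ZR inf_le_left) inf_le_right p.nm p.Zm
    (fun g hg => p.ZT hg) cZ fun c hc => h.comZ hc.1 h.yR
  have q16 : Nat.card Q ≤ 16 := by
    have : Nat.card ↥(R ⊓ Q) ≤ 8 := by nlinarith
    omega
  have e : Z Q = Q := le_antisymm inf_le_left fun x hx => by
    by_contra hx'
    have l : Z Q ≤ Q ⊓ centralizer {x} := inf_le_inf_left _ (centralizer_le (by simpa))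
    have h1 := cm' l
    have h2 := cm' (inf_le_left : Q ⊓ centralizer {x} ≤ Q)
    have h3 : (Z Q).relIndex (Q ⊓ centralizer {x}) ≠ 1 := fun e =>
      hx' (relIndex_eq_one.1 e ⟨hx, mem_centralizer_singleton_iff.2 rfl⟩)
    have h4 : (Z Q).relIndex (Q ⊓ centralizer {x}) ≠ 0 := index_ne_zero_of_finite
    have h5 := p.Z4
    have h6 : 8 ≤ Nat.card ↥(Q ⊓ centralizer {x}) := by
      rw [← h1]; exact Nat.mul_le_mul h5 (show 2 ≤ _ by omega)
    have := idx2 p le_rfl inf_le_left p.nm (p.ivC (s := {x}) (by simpa)) (by nlinarith)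
    exact hx' ⟨hx, mem_centralizer_iff.2 fun u hu => mem_centralizer_singleton_iff.1 (this.ge hu).2⟩
  exact ⟨e, e ▸ z4⟩

end Cfsg.Agent.C33
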