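import Cfsg.Agent.C33.A
import Cfsg.Agent.S3331
import Cfsg.Agent.GW.DStr
import Cfsg.Agent.H1.Cores
import Cfsg.Agent.H11.Three

set_option autoImplicit false

namespace Cfsg.Agent.C33

open Subgroup

namespace Loc

theorem d10 : ∀ σ : Equiv.Perm (Fin 5), σ ^ 10 = 1 → σ ^ 2 = 1 ∨ σ ^ 5 = 1 := by decide +kernel

set_option synthInstance.maxSize 2000 in
theorem d5 : ∀ x : Equiv.Perm (Fin 5), x ^ 5 = 1 → x ≠ 1 → ∃ m : Equiv.Perm (Fin 5), m ^ 3 = 1 ∧ m ≠ 1 ∧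
    ∃ j : Fin 5, m * m = x * m * x ^ j.val := by decide +kernel

theorem d4 : ∀ a : Equiv.Perm (Fin 5), a * a = 1 → a ≠ 1 → Equiv.Perm.sign a = 1 →
    ∃ m : Equiv.Perm (Fin 5), m ^ 3 = 1 ∧ m ≠ 1 ∧ ∀ b : Equiv.Perm (Fin 5), b * a = a * b →
      Equiv.Perm.sign b = 1 → b * b = 1 ∧ m * b * m⁻¹ * a = a * (m * b * m⁻¹) := by decide +kernel

theorem ev {m : Equiv.Perm (Fin 5)} (h : m ^ 3 = 1) : m ∈ alternatingGroup (Fin 5) := by
  have := congrArg Equiv.Perm.sign h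
  rw [map_pow, map_one, pow_succ, sq, Int.units_mul_self, one_mul] at this
  exact Equiv.Perm.mem_alternatingGroup.2 this

variable {H : Type*} [Group H] [Finite H] {m0 : H}

omit [Finite H] in
theorem one23 {N : Subgroup H} (hN : IsPGroup 2 N) {c : H} (hc : c ∈ N) (h : c ^ 3 = 1) : c = 1 := by
  obtain ⟨k, hk⟩ := hN ⟨c, hc⟩
  have hk' : c ^ 2 ^ k = 1 := congrArg Subtype.val hk
  have := pow_gcd_eq_one.2 ⟨hk', h⟩
  rwa [Nat.Coprime.gcd_eq_one (Nat.Coprime.pow_left _ (by norm_num)), pow_one] at this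

theorem f3 (h3 : orderOf m0 = 3) (hC : ∀ c, c * m0 = m0 * c → c ∈ zpowers m0) {m c : H}
    (hm : m ^ 3 = 1) (m1 : m ≠ 1) (e : c * m = m * c) : c ^ 3 = 1 := by
  haveI : Fact (Nat.Prime 3) := ⟨by norm_num⟩
  have z3 : ∀ c ∈ zpowers m0, c ^ 3 = 1 := by
    rintro _ ⟨k, rfl⟩
    rw [← zpow_natCast, ← zpow_mul, mul_comm, zpow_mul, zpow_natCast, ← h3, pow_orderOf_eq_one, one_zpow]
  have key : ∀ z ∈ zpowers m0, z ≠ 1 → ∀ c, c * z = z * c → c ∈ zpowers m0 := fun z hz z1 c e => by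
    have : zpowers z = zpowers m0 := eq_of_le_of_card_ge (zpowers_le.2 hz) (by
      rw [Nat.card_zpowers, Nat.card_zpowers, h3, orderOf_eq_prime (z3 z hz) z1])
    obtain ⟨k, hk⟩ : m0 ∈ zpowers z := this ▸ mem_zpowers m0
    exact hC c (by rw [← hk]; exact (Commute.zpow_right e k).eq)
  have pg : ∀ x : H, orderOf x = 3 → IsPGroup 3 (zpowers x) := fun x hx =>
    IsPGroup.of_card (n := 1) (by rw [Nat.card_zpowers, hx]; rfl)
  obtain ⟨P, hP⟩ := (pg m0 h3).exists_le_sylow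
  obtain ⟨P', hP'⟩ := (pg m (orderOf_eq_prime hm m1)).exists_le_sylow
  have hPe : (P : Subgroup H) ≤ zpowers m0 := by
    haveI : Nontrivial P := ⟨⟨⟨m0, hP (mem_zpowers m0)⟩, 1, fun e => by
      have : m0 = 1 := congrArg Subtype.val e
      simp [this] at h3⟩⟩
    haveI := P.isPGroup'.center_nontrivial
    obtain ⟨z, hz⟩ := exists_ne (1 : center P)
    have zc := mem_center_iff.1 z.2
    exact fun y hy => key z.1.1 (hC _ (congrArg Subtype.val (zc ⟨m0, hP (mem_zpowers m0)⟩)).symm)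
      (fun e => hz (Subtype.ext (Subtype.ext e))) y (congrArg Subtype.val (zc ⟨y, hy⟩))
  obtain ⟨g, rfl⟩ := MulAction.exists_smul_eq H P' P
  have hm' : g * m * g⁻¹ ∈ zpowers m0 := hPe (by
    rw [Sylow.coe_subgroup_smul]
    exact smul_mem_pointwise_smul _ (MulAut.conj g) _ (hP' (mem_zpowers m)))
  have := z3 _ (key _ hm' (by simpa using m1) (g * c * g⁻¹) (by
    rw [conj_mul, conj_mul, e]))
  simpa using this

theorem str (hH : IsOfCharacteristicTwo H) (hne : pCore 2 H ≠ ⊥) (h3 : orderOf m0 = 3)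
    (hC : ∀ c, c * m0 = m0 * c → c ∈ zpowers m0) : ∃ (N : Subgroup H) (_ : N.Normal), IsPGroup 2 N ∧
      (Nat.card (H ⧸ N) = 3 ∨ Nonempty (H ⧸ N ≃* Equiv.Perm (Fin 3)) ∨
        ((∀ a ∈ N, ∀ b ∈ N, a * b = b * a) ∧ (∀ n ∈ N, n ^ 2 = 1) ∧
          Nonempty (H ⧸ N ≃* alternatingGroup (Fin 5)))) := by
  rcases S3331.result (zpowers m0) (by rw [Nat.card_zpowers, h3]) (le_antisymm
    (fun c hc => hC c (mem_centralizer_iff.1 hc m0 (mem_zpowers m0)).symm)
    (le_centralizer _)) with ⟨N, hN, h1, -, h2⟩ | ⟨N, hN, h1, h2, h4⟩ | ⟨⟨e⟩⟩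
  · refine ⟨N, hN, ?_, h2.imp id Or.inl⟩
    refine IsPGroup.iff_card.2 ⟨_, Nat.eq_prime_pow_of_unique_prime_dvd Nat.card_pos.ne' fun {r} hr hd => ?_⟩
    by_contra r2
    haveI := Fact.mk hr
    obtain ⟨R⟩ : Nonempty (Sylow r N) := inferInstance
    haveI : (R : Subgroup N).Normal := Sylow.normal_of_normalizerCondition normalizerCondition_of_isNilpotent R
    haveI := R.characteristic_of_normal this
    have hd' := IsPGroup.disjoint_of_ne 2 r (Ne.symm r2) _ _ (H1.isPGroup_pCore 2 H)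
      (R.isPGroup'.map N.subtype)
    have hle : (R : Subgroup N).map N.subtype ≤ pCore 2 H := fun y hy => hH fun x hx =>
      (commute_of_normal_of_disjoint _ _ inferInstance inferInstance hd' x y hx hy).eq
    exact R.ne_bot_of_dvd_card hd ((map_eq_bot_iff_of_injective _ N.subtype_injective).1
      (hd'.eq_bot_of_ge hle))
  · exact ⟨N, hN, fun x => ⟨1, Subtype.ext (h2 x x.2)⟩, Or.inr (Or.inr ⟨fun a ha b hb =>
      congrArg Subtype.val (h1.is_comm.comm (⟨a, ha⟩ : N) ⟨b, hb⟩), h2, h4⟩)⟩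
  · exfalso
    haveI : Fact (Nat.Prime 7) := ⟨by norm_num⟩
    haveI := GW.psl_simple (F := ZMod 7) (by rw [ZMod.card]; norm_num)
    haveI : IsSimpleGroup H := e.isSimpleGroup
    have := (IsSimpleGroup.eq_bot_or_eq_top_of_normal (pCore 2 H) inferInstance).resolve_left hne
    have := one23 (H1.isPGroup_pCore 2 H) (this ▸ mem_top m0) (h3 ▸ pow_orderOf_eq_one m0)
    simp [this] at h3

theorem l1 (hH : IsOfCharacteristicTwo H) (hne : pCore 2 H ≠ ⊥) (h3 : orderOf m0 = 3)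
    (hC : ∀ c, c * m0 = m0 * c → c ∈ zpowers m0) {t x : H} (ht : orderOf t = 2)
    (e : t * x = x * t) : ∃ k, x ^ 2 ^ k = 1 := by
  by_contra hx
  have t2 : t ^ 2 = 1 := ht ▸ pow_orderOf_eq_one t
  have t1 : t ≠ 1 := fun e => by simp [e] at ht
  obtain ⟨r, hr, r2, y, hy, ey⟩ : ∃ r : ℕ, r.Prime ∧ r ≠ 2 ∧ ∃ y : H, orderOf y = r ∧ t * y = y * t := by
    by_contra hn
    push Not at hn
    refine hx ⟨_, orderOf_dvd_iff_pow_eq_one.1 (Nat.eq_prime_pow_of_unique_prime_dvd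
      (orderOf_pos x).ne' fun {r} hr hd => ?_).dvd⟩
    by_contra r2
    exact hn r hr r2 _ (orderOf_pow_orderOf_div (orderOf_pos x).ne' hd) (Commute.pow_right e _).eq
  have y1 : y ≠ 1 := fun e => hr.one_lt.ne (by rw [← hy, e, orderOf_one])
  have r3 : r ≠ 3 := by
    rintro rfl
    have := pow_gcd_eq_one.2 ⟨f3 h3 hC (hy ▸ pow_orderOf_eq_one y) y1 ey, t2⟩
    exact t1 (by simpa using this)
  obtain ⟨N, _, hN, h⟩ := str hH hne h3 hC
  have yN : y ∉ N := fun e => by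
    obtain ⟨k, hk⟩ := hN ⟨y, e⟩
    have := orderOf_dvd_of_pow_eq_one (congrArg Subtype.val hk : y ^ 2 ^ k = 1)
    exact r2 ((Nat.prime_dvd_prime_iff_eq hr Nat.prime_two).1 (hr.dvd_of_dvd_pow (hy ▸ this)))
  haveI := Fact.mk hr
  have oy : orderOf (y : H ⧸ N) = r := orderOf_eq_prime (by
    rw [← QuotientGroup.mk_pow, ← hy, pow_orderOf_eq_one, QuotientGroup.mk_one])
    (fun e => yN ((QuotientGroup.eq_one_iff y).1 e))
  have hd := oy ▸ orderOf_dvd_natCard (y : H ⧸ N)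
  have h2 := hr.two_le
  rcases h with h | ⟨⟨f⟩⟩ | ⟨hc, hs, ⟨f⟩⟩
  · exact r3 ((Nat.prime_dvd_prime_iff_eq hr Nat.prime_three).1 (h ▸ hd))
  · rw [Nat.card_congr f.toEquiv, Nat.card_perm, Nat.card_fin] at hd
    have := Nat.le_of_dvd (by norm_num) hd
    interval_cases r <;> simp_all (decide := true)
  rw [Nat.card_congr f.toEquiv, nat_card_alternatingGroup, Nat.card_fin,
    show Nat.factorial 5 / 2 = 2 ^ 2 * 3 * 5 from rfl] at hd
  obtain rfl : r = 5 := by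
    rcases (Nat.Prime.dvd_mul hr).1 hd with h | h
    · rcases (Nat.Prime.dvd_mul hr).1 h with h | h
      · exact absurd ((Nat.prime_dvd_prime_iff_eq hr Nat.prime_two).1 (hr.dvd_of_dvd_pow h)) r2
      · exact absurd ((Nat.prime_dvd_prime_iff_eq hr Nat.prime_three).1 h) r3
    · exact (Nat.prime_dvd_prime_iff_eq hr Nat.prime_five).1 h
  let φ : H →* Equiv.Perm (Fin 5) :=
    (alternatingGroup (Fin 5)).subtype.comp (f.toMonoidHom.comp (QuotientGroup.mk' N))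
  have hφ : ∀ g, φ g = 1 ↔ g ∈ N := fun g => by
    rw [← QuotientGroup.eq_one_iff, ← f.map_eq_one_iff, Subtype.ext_iff]; rfl
  have y5 : y ^ 5 = 1 := hy ▸ pow_orderOf_eq_one y
  have cm : Commute t y := ey
  have tN : t ∈ N := by
    rcases d10 (φ (t * y)) (by
      rw [← map_pow, cm.mul_pow, show 10 = 2 * 5 from rfl, pow_mul, t2, mul_comm 2, pow_mul, y5]
      simp) with h | h <;> rw [← map_pow, cm.mul_pow, hφ] at h
    · rw [t2, one_mul] at h
      exact absurd (by simpa [← pow_mul, pow_succ y 5, y5] using pow_mem h 3) yN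
    · rw [y5, mul_one, show 5 = 2 * 2 + 1 from rfl, pow_succ, pow_mul, t2] at h
      simpa using h
  obtain ⟨μ, μ3, μ1, j, hj⟩ := d5 (φ y) (by rw [← map_pow, y5, map_one]) (fun e => yN ((hφ y).1 e))
  obtain ⟨m, rfl⟩ : ∃ m, φ m = μ := by
    obtain ⟨q, hq⟩ := f.surjective ⟨μ, ev μ3⟩
    obtain ⟨m, rfl⟩ := QuotientGroup.mk_surjective q
    exact ⟨m, congrArg Subtype.val hq⟩
  have act : ∀ a b : H, φ a = φ b → ∀ n ∈ N, a * n * a⁻¹ = b * n * b⁻¹ := fun a b e n hn => by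
    have := hc _ ((hφ (b⁻¹ * a)).1 (by simp [e])) n hn
    calc a * n * a⁻¹ = b * (b⁻¹ * a * n) * a⁻¹ := by group
      _ = _ := by rw [this]; group
  have cj := fun (g : H) {n : H} (hn : n ∈ N) => (inferInstance : N.Normal).conj_mem n hn g
  have m3 : m ^ 3 ∈ N := (hφ _).1 (by rw [map_pow, μ3])
  set u := m * t * m⁻¹ with hu
  have uN : u ∈ N := cj m tN
  have e1 : m * u * m⁻¹ = y * u * y⁻¹ := by
    have := act (m * m) (y * m * y ^ j.val) (by simp [hj]) t tN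
    have c : y ^ j.val * t * (y ^ j.val)⁻¹ = t := by rw [← (cm.pow_right _).eq]; group
    calc m * u * m⁻¹ = m * m * t * (m * m)⁻¹ := by rw [hu]; group
      _ = y * m * (y ^ j.val * t * (y ^ j.val)⁻¹) * (y * m)⁻¹ := by rw [this]; group
      _ = _ := by rw [c, hu]; group
  have e2 : m * (m * u * m⁻¹) * m⁻¹ = t := by
    calc _ = m ^ 3 * t * (m ^ 3)⁻¹ := by rw [hu]; simp [pow_succ, mul_assoc]
      _ = t := by rw [hc _ m3 _ tN]; group
  have cN : t * u * (m * u * m⁻¹) ∈ N := mul_mem (mul_mem tN uN) (cj m uN)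
  have e3 : Commute (t * u * (m * u * m⁻¹)) m := by
    have : m * (t * u * (m * u * m⁻¹)) * m⁻¹ = u * (m * u * m⁻¹) * t := by
      conv_rhs => rw [← e2]
      rw [hu]; group
    rw [hc _ (mul_mem uN (cj m uN)) t tN, ← mul_assoc t u, mul_inv_eq_iff_eq_mul] at this
    exact this.symm
  have e4 := one23 hN cN (f3 h3 hC (m := m ^ 4) (by
      rw [← pow_mul, show 4 * 3 = 3 * 2 * 2 from rfl, pow_mul, pow_mul, hs _ m3, one_pow])
    (fun e => μ1 (by
      have := congrArg φ e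
      rwa [map_pow, pow_succ, μ3, one_mul, map_one] at this)) (e3.pow_right 4).eq)
  rw [e1, mul_assoc, mul_eq_one_iff_inv_eq] at e4
  have e5 : y * (y * u * y⁻¹) * y⁻¹ = u := by
    have a1 : y * t⁻¹ * y⁻¹ = t⁻¹ := by rw [← cm.inv_left.eq]; group
    have a2 : y * t⁻¹ * y⁻¹ = (y * u * y⁻¹) * (y * (y * u * y⁻¹) * y⁻¹) := by rw [e4]; group
    rw [a1, e4, hc _ uN _ (cj y uN)] at a2
    exact (mul_left_cancel a2).symm
  have e6 : Commute (y ^ 2) u := by
    have : y ^ 2 * u * (y ^ 2)⁻¹ = u := by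
      conv_rhs => rw [← e5]
      simp [pow_succ, mul_assoc]
    exact mul_inv_eq_iff_eq_mul.1 this
  have e7 : Commute y u := by simpa [← pow_mul, pow_succ y 5, y5] using e6.pow_left 3
  rw [e7.eq, mul_inv_cancel_right, ← sq, hs u uN, inv_eq_one] at e4
  exact t1 e4

theorem l2 (hH : IsOfCharacteristicTwo H) (hne : pCore 2 H ≠ ⊥) (h3 : orderOf m0 = 3)
    (hC : ∀ c, c * m0 = m0 * c → c ∈ zpowers m0) (T : Subgroup H) (h2 : IsPGroup 2 T)
    (ho : Odd T.index) (hN : ¬ 3 ∣ Nat.card (normalizer (T : Set H))) :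
    ∃ Q : Subgroup H, Q.Normal ∧ PS Q T m0 ∧ T.index = 3 := by
  obtain ⟨N, _, h1, h⟩ := str hH hne h3 hC
  have nd : ¬ 2 ∣ T.index := fun e => (Nat.not_even_iff_odd.2 ho) (even_iff_two_dvd.2 e)
  have mx : ∀ X : Subgroup H, IsPGroup 2 X → T ≤ X → X = T := fun X hX hle =>
    (h2.toSylow nd).is_maximal' hX hle
  have hNT : N ≤ T := mx _ (h2.to_sup_of_normal_right h1) le_sup_left ▸ le_sup_right
  have hi := relIndex_mul_index hNT
  obtain ⟨k, hk⟩ := h2.index (N.subgroupOf T)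
  change N.relIndex T = _ at hk
  have m3 : m0 ^ 3 = 1 := h3 ▸ pow_orderOf_eq_one m0
  rcases h with h | ⟨⟨f⟩⟩ | ⟨hc, hs, ⟨f⟩⟩
  · exfalso
    rw [show N.index = 3 from h, hk] at hi
    obtain rfl : k = 0 := by
      by_contra k0
      have : 2 ∣ 3 := hi ▸ (dvd_pow_self 2 k0).mul_right _
      omega
    obtain rfl : N = T := le_antisymm hNT (relIndex_eq_one.1 hk)
    rw [normalizer_eq_top, card_top] at hN
    exact hN (h3 ▸ orderOf_dvd_natCard m0)
  · have i6 : N.index = 6 := by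
      rw [index_eq_card, Nat.card_congr f.toEquiv, Nat.card_perm, Nat.card_fin]; rfl
    rw [i6, hk] at hi
    have k1 : k = 1 ∧ T.index = 3 := by
      rcases k with _ | _ | k
      · omega
      · omega
      · have : 2 ^ 2 ∣ 6 := hi ▸ (pow_dvd_pow 2 (by omega)).mul_right _
        omega
    let φ : H →* Equiv.Perm (Fin 3) := f.toMonoidHom.comp (QuotientGroup.mk' N)
    have hφ : ∀ g, φ g = 1 ↔ g ∈ N := fun g => by
      rw [← QuotientGroup.eq_one_iff, ← f.map_eq_one_iff]; rfl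
    have fp : ∀ X : Subgroup H, IsPGroup 2 X → ∀ x ∈ X, m0 * x * m0⁻¹ = x → x = 1 := fun X hX x hx e =>
      one23 hX hx (f3 h3 hC m3 (fun e => by simp [e] at h3) (mul_inv_eq_iff_eq_mul.1 e).symm)
    refine ⟨N, inferInstance, ⟨h2, hNT, by rw [hk, k1.1, pow_one], fun e => hne (eq_bot_iff.2 fun z hz => ?_),
      m3, fun x hx => (inferInstance : N.Normal).conj_mem x hx m0, fp N h1, fun y hy hy' => ?_⟩, k1.2⟩
    · have p2 := H1.isPGroup_pCore 2 H
      have c : (m0 * z * m0⁻¹ * z⁻¹) ^ 3 = 1 := by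
        rw [← mem_bot, ← e, ← hφ]
        simp only [map_pow, map_mul, map_inv]
        exact (by decide +kernel : ∀ a b : Equiv.Perm (Fin 3), (a * b * a⁻¹ * b⁻¹) ^ 3 = 1) _ _
      exact fp _ p2 z hz (mul_inv_eq_one.1 (one23 p2 (mul_mem
        ((inferInstance : (pCore 2 H).Normal).conj_mem z hz m0) (inv_mem hz)) c))
    · have y2 : y * y ∈ N := mul_self_mem_of_index_two (H := N.subgroupOf T)
        (by rw [← pow_one 2, ← k1.1]; exact hk) ⟨y, hy⟩
      rw [← hφ]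
      simp only [map_mul, map_inv]
      exact (by decide +kernel : ∀ a b : Equiv.Perm (Fin 3), a * a = 1 → a ≠ 1 → b ^ 3 = 1 → a * b * a⁻¹ * b = 1)
        _ _ (by rw [← map_mul, hφ]; exact y2) (fun e => hy' ((hφ y).1 e)) (by rw [← map_pow, m3, map_one])
  · exfalso
    let φ : H →* Equiv.Perm (Fin 5) :=
      (alternatingGroup (Fin 5)).subtype.comp (f.toMonoidHom.comp (QuotientGroup.mk' N))
    have hφ : ∀ g, φ g = 1 ↔ g ∈ N := fun g => by
      rw [← QuotientGroup.eq_one_iff, ← f.map_eq_one_iff, Subtype.ext_iff]; rfl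
    have sg : ∀ g, Equiv.Perm.sign (φ g) = 1 := fun g => Equiv.Perm.mem_alternatingGroup.1 (f g).2
    have i60 : N.index = 60 := by
      rw [index_eq_card, Nat.card_congr f.toEquiv, nat_card_alternatingGroup, Nat.card_fin]; rfl
    have hlt : ¬ T ≤ N := fun e => nd (by rw [le_antisymm e hNT, i60]; norm_num)
    obtain ⟨a, ha, aN, a2, ac⟩ := H11.exists_central_mod_in h2 le_rfl
      (by rw [normalizer_eq_top N]; exact le_top) le_normalizer hlt
    obtain ⟨μ, μ3, μ1, hμ⟩ := d4 (φ a) (by rw [← map_mul, hφ, ← sq]; exact a2)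
      (fun e => aN ((hφ a).1 e)) (sg a)
    obtain ⟨m, rfl⟩ : ∃ m, φ m = μ := by
      obtain ⟨q, hq⟩ := f.surjective ⟨μ, ev μ3⟩
      obtain ⟨m, rfl⟩ := QuotientGroup.mk_surjective q
      exact ⟨m, congrArg Subtype.val hq⟩
    have eT : (centralizer {φ a}).comap φ = T := mx _ (fun x => ⟨2, Subtype.ext (by
      have := (hμ _ (mem_centralizer_singleton_iff.1 x.2) (sg x)).1
      rw [← map_mul, hφ, ← sq] at this
      exact (pow_mul x.1 2 2).trans (hs _ this))⟩) fun s hs' => mem_centralizer_singleton_iff.2 (by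
        have := (hφ _).2 (ac s hs')
        simp only [map_mul, map_inv] at this
        rwa [mul_inv_eq_one, mul_inv_eq_iff_eq_mul] at this)
    have hm : m ∈ normalizer (T : Set H) := mem_normalizer_fintype fun s hs' => by
      rw [← eT] at hs' ⊢
      have := (hμ _ (mem_centralizer_singleton_iff.1 hs') (sg s)).2
      exact mem_centralizer_singleton_iff.2 (by simpa only [map_mul, map_inv] using this)
    haveI : Fact (Nat.Prime 3) := ⟨by norm_num⟩
    exact hN ((orderOf_eq_prime μ3 μ1 ▸ orderOf_map_dvd φ m).trans (orderOf_dvd_natCard _ hm))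

end Loc

variable {G : Type*} [Group G] [Finite G]

theorem loc1 (L : Subgroup G) (hL : Cfsg.IsOfCharacteristicTwo L) (hne : Cfsg.pCore 2 L ≠ ⊥) {m0 : G}
    (hm : m0 ∈ L) (h3 : orderOf m0 = 3) (hC : ∀ c ∈ L, c * m0 = m0 * c → c ∈ zpowers m0) {t x : G}
    (ht : t ∈ L) (ht2 : orderOf t = 2) (hx : x ∈ L) (e : t * x = x * t) : ∃ k, x ^ (2 ^ k) = 1 := by
  obtain ⟨k, hk⟩ := Loc.l1 (m0 := ⟨m0, hm⟩) hL hne (by rw [orderOf_mk, h3]) (fun c e => by
    obtain ⟨k, hk⟩ := hC c c.2 (congrArg Subtype.val e)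
    exact ⟨k, Subtype.ext hk⟩) (t := ⟨t, ht⟩) (x := ⟨x, hx⟩) (by rw [orderOf_mk, ht2]) (Subtype.ext e)
  exact ⟨k, congrArg Subtype.val hk⟩

theorem loc2 (L : Subgroup G) (hL : Cfsg.IsOfCharacteristicTwo L) (hne : Cfsg.pCore 2 L ≠ ⊥) {m0 : G}
    (hm : m0 ∈ L) (h3 : orderOf m0 = 3) (hC : ∀ c ∈ L, c * m0 = m0 * c → c ∈ zpowers m0)
    (T : Subgroup G) (hT : T ≤ L) (h2 : IsPGroup 2 T) (ho : Odd (T.relIndex L))
    (hN : ¬ 3 ∣ Nat.card ↥(L ⊓ normalizer (T : Set G))) :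
    ∃ Q m, PS Q T m ∧ m ∈ L ∧ L ≤ normalizer (Q : Set G) ∧ Nat.card L = 3 * Nat.card T := by
  obtain ⟨Q, hQ, h, i3⟩ := Loc.l2 (m0 := ⟨m0, hm⟩) hL hne (by rw [orderOf_mk, h3]) (fun c e => by
    obtain ⟨k, hk⟩ := hC c c.2 (congrArg Subtype.val e)
    exact ⟨k, Subtype.ext hk⟩) (T.subgroupOf L) (h2.of_equiv (subgroupOfEquivOfLe hT).symm) ho (by
      rwa [← subgroupOf_normalizer_eq hT, ← inf_subgroupOf_left,
        Nat.card_congr (subgroupOfEquivOfLe inf_le_left).toEquiv])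
  have eT : (T.subgroupOf L).map L.subtype = T := map_subgroupOf_eq_of_le hT
  refine ⟨Q.map L.subtype, m0, ⟨h2, eT ▸ map_mono h.le, ?_, fun e => h.ne
    ((map_eq_bot_iff_of_injective _ L.subtype_injective).1 e), h3 ▸ pow_orderOf_eq_one m0, ?_, ?_,
    fun y hy hy' => ⟨_, h.inv ⟨y, hT hy⟩ hy fun e => hy' ⟨_, e, rfl⟩, rfl⟩⟩, hm, fun g hg => ?_, ?_⟩
  · rw [← eT, relIndex_map_map_of_injective _ _ L.subtype_injective, h.idx]
  · rintro _ ⟨x, hx, rfl⟩; exact ⟨_, h.nm x hx, rfl⟩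
  · rintro _ ⟨x, hx, rfl⟩ e; exact congrArg Subtype.val (h.fpf x hx (Subtype.ext e))
  · refine mem_normalizer_fintype ?_
    rintro _ ⟨x, hx, rfl⟩; exact ⟨_, hQ.conj_mem x hx ⟨g, hg⟩, rfl⟩
  · rw [← (T.subgroupOf L).index_mul_card, i3, Nat.card_congr (subgroupOfEquivOfLe hT).toEquiv]

end Cfsg.Agent.C33
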