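import Cfsg.Agent.C33.C3
import Cfsg.Agent.C33.Loc
import Cfsg.Agent.H1.Generation
import Cfsg.Agent.S0214

/-! Pushing up in a group of characteristic `2` type of order `9 * 2 ^ a * q ^ b` -/

set_option autoImplicit false

namespace Cfsg.Agent.C33

open Subgroup

variable {G : Type*} [Group G] [Finite G] {Q T H X M : Subgroup G} {m : G} {q a b : ℕ}

local notation "𝐍[" X "]" => normalizer (SetLike.coe X)

theorem grow (hT : T ≤ H) (h2 : IsPGroup 2 T) (ho : ¬ Odd (T.relIndex H)) :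
    ∃ T' : Subgroup G, IsPGroup 2 T' ∧ Nat.card T < Nat.card T' ∧ T' ≤ H ∧ T' ≤ 𝐍[T] := by
  obtain ⟨n, hn⟩ := h2.exists_card_eq
  have c : Nat.card (T.subgroupOf H) = 2 ^ n := by
    rw [← hn]; exact Nat.card_congr (subgroupOfEquivOfLe hT).toEquiv
  obtain ⟨K, k1, k2⟩ := Sylow.exists_subgroup_card_pow_succ (G := H) (p := 2) (n := n) (by
    rw [← cm' hT, hn, pow_succ]
    exact Nat.mul_dvd_mul_left _ (even_iff_two_dvd.1 (Nat.not_odd_iff_even.1 ho))) c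
  have k3 : Nat.card (K.map H.subtype) = 2 ^ (n + 1) := by rw [card_map_of_injective H.subtype_injective, k1]
  have l : T ≤ K.map H.subtype := fun x hx => ⟨⟨x, hT hx⟩, k2 hx, rfl⟩
  have i : T.relIndex (K.map H.subtype) = 2 := by
    have := cm' l
    rw [hn, k3, pow_succ] at this
    exact Nat.eq_of_mul_eq_mul_left (by positivity) this
  refine ⟨K.map H.subtype, .of_card k3, by rw [hn, k3]; exact Nat.pow_lt_pow_right one_lt_two n.lt_succ_self,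
    map_subtype_le K, (normal_subgroupOf_iff_le_normalizer l).1 (normal_of_index_eq_two i)⟩

theorem PS.fin (h : PS Q T m) (e : Z Q = Q) (h4 : Nat.card Q ≤ 4) (ho : Odd (T.relIndex 𝐍[Q])) :
    ∃ (S : Sylow 2 G) (v : ↥(S : Subgroup G)), orderOf v = 2 ∧
      Nat.card (centralizer ({v} : Set ↥(S : Subgroup G))) = 4 := by
  obtain ⟨S, hS⟩ := h.two.exists_le_sylow
  have z4 := h.Z4
  have nT : T ≤ 𝐍[Q] := fun g hg => (h.ivT hg).nm
  have l : (S : Subgroup G) ⊓ 𝐍[Q] ≤ T := le_of_odd S.2.to_inf_left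
    (ho.of_dvd_nat ⟨_, (relIndex_mul_relIndex _ _ _ (le_inf hS nT) inf_le_right).symm⟩)
  have nc : ∀ y ∈ T, y ∉ Q → ∃ v ∈ Q, v * y ≠ y * v := fun y hy hy' => by
    by_contra! c
    have := h.hz hy hy' le_rfl fun v hv => c v hv.1
    nlinarith
  have cQ : ∀ c ∈ (S : Subgroup G), (∀ v ∈ Q, v * c = c * v) → c ∈ Q := fun c hc hv => by
    by_contra c'
    obtain ⟨v, v1, v2⟩ := nc c (l ⟨hc, centralizer_le_normalizer _ (mem_centralizer_iff.2 hv)⟩) c'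
    exact v2 (hv v v1)
  obtain ⟨y, y1, y2⟩ := SetLike.not_le_iff_exists.1 fun l : T ≤ Q =>
    absurd (h.idx.symm.trans (relIndex_eq_one.2 l)) (by norm_num)
  obtain ⟨v, v1, v2⟩ := nc y y1 y2
  obtain ⟨⟨z, z1⟩, z2⟩ := ne_bot_iff_exists_ne_one.1 (Z_ne S.2 fun e' => h.ne
    (eq_bot_iff.2 (e' ▸ h.le.trans hS)))
  have zc := mem_centralizer_iff.1 (mem_inf.1 z1).2
  have zQ := cQ z z1.1 fun v hv => zc v (hS (h.le hv))
  have v0 : v ≠ 1 := fun e => v2 (by simp [e])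
  have z0 : z ≠ 1 := fun e => z2 (Subtype.ext e)
  have zv : z ≠ v := fun e => v2 (e ▸ (zc y (hS y1)).symm)
  rw [e] at z4
  refine ⟨S, ⟨v, hS (h.le v1)⟩, ?_, ?_⟩
  · rw [orderOf_mk]
    exact orderOf_eq_prime (by rw [pow_two]; exact h.exp2 (e.symm ▸ h4) (e.ge v1)) v0
  · rw [show centralizer ({⟨v, hS (h.le v1)⟩} : Set ↥(S : Subgroup G)) = Q.subgroupOf S from
      Subgroup.ext fun c => ⟨fun hc => cQ c c.2 fun u hu => ?_, fun hc => mem_centralizer_singleton_iff.2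
        (Subtype.ext (mem_centralizer_iff.1 (mem_inf.1 (e.ge v1)).2 c hc))⟩,
      Nat.card_congr (subgroupOfEquivOfLe (h.le.trans hS)).toEquiv, le_antisymm h4 z4]
    have h3 : 3 ≤ Nat.card ↥(Q ⊓ centralizer {(c : G)}) := by
      have := Set.ncard_le_ncard (s := {1, z, v}) (t := (Q ⊓ centralizer {(c : G)} : Subgroup G)) (by
        rintro x (rfl | rfl | rfl)
        · exact one_mem _
        · exact ⟨zQ, mem_centralizer_singleton_iff.2 (zc c c.2).symm⟩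
        · exact ⟨v1, mem_centralizer_singleton_iff.2
            (congrArg Subtype.val (mem_centralizer_singleton_iff.1 hc)).symm⟩)
      rwa [Set.ncard_eq_three.2 ⟨1, z, v, z0.symm, v0.symm, zv, rfl⟩] at this
    have h5 := cm' (inf_le_left : Q ⊓ centralizer {(c : G)} ≤ Q)
    have h6 : (Q ⊓ centralizer {(c : G)}).relIndex Q ≠ 0 := index_ne_zero_of_finite
    have h7 : (Q ⊓ centralizer {(c : G)}).relIndex Q = 1 := by
      by_contra h7
      have := Nat.mul_le_mul h3 (show 2 ≤ (Q ⊓ centralizer {(c : G)}).relIndex Q by omega)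
      omega
    exact mem_centralizer_singleton_iff.1 (mem_inf.1 (relIndex_eq_one.1 h7 hu)).2

/-- the standing hypotheses -/
structure HY (G : Type*) [Group G] (q a b : ℕ) : Prop where
  od : Od G q a b
  c2 : Cfsg.IsCharacteristicTwoType G
  h3 : ∀ m : G, orderOf m = 3 → Nat.card (centralizer ({m} : Set G)) = 9 ∧
    (∀ c ∈ centralizer ({m} : Set G), c ^ 3 = 1) ∧ IsMulCommutative (centralizer ({m} : Set G))

/-- an involution centralizes an element which is not a `2`-element -/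
def Bad (H : Subgroup G) : Prop :=
  ∃ t ∈ H, ∃ x ∈ H, orderOf t = 2 ∧ t * x = x * t ∧ ∀ k, x ^ 2 ^ k ≠ 1

namespace HY

variable (h : HY G q a b)
include h

theorem t3 (h2 : IsPGroup 2 X) (hne : X ≠ ⊥) (h3 : 3 ∣ Nat.card 𝐍[X]) :
    ∃ m0 ∈ 𝐍[X], orderOf m0 = 3 ∧ ∀ c ∈ 𝐍[X], c * m0 = m0 * c → c ∈ zpowers m0 := by
  obtain ⟨⟨m0, hm⟩, o3⟩ := exists_prime_orderOf_dvd_card' 3 h3
  rw [orderOf_mk] at o3
  obtain ⟨c9, e3, cm⟩ := h.h3 m0 o3
  refine ⟨m0, hm, o3, fun c hc e => ?_⟩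
  have l : zpowers m0 ≤ 𝐍[X] ⊓ centralizer {m0} := zpowers_le.2 ⟨hm, mem_centralizer_singleton_iff.2 rfl⟩
  by_cases cy : IsCyclic ↥(𝐍[X] ⊓ centralizer {m0})
  · obtain ⟨g, hg⟩ := cy.exists_ofOrder_eq_natCard
    refine (eq_of_le_of_card_ge l ?_).ge ⟨hc, mem_centralizer_singleton_iff.2 e⟩
    rw [Nat.card_zpowers, o3, ← hg]
    exact orderOf_le_of_pow_eq_one (by norm_num) (Subtype.ext (e3 g g.2.2))
  · haveI : IsMulCommutative ↥(𝐍[X] ⊓ centralizer {m0}) := ⟨⟨fun x y => Subtype.ext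
      (congrArg Subtype.val (cm.1.1 ⟨x, x.2.2⟩ ⟨y, y.2.2⟩) :)⟩⟩
    obtain ⟨n, hn⟩ := h2.exists_card_eq
    refine absurd (eq_bot_iff.2 (H1.le_of_forall_centralizer_singleton_le cy inf_le_left
      (Nat.Coprime.coprime_dvd_left (c9 ▸ card_dvd_of_le inf_le_right)
        (hn ▸ Nat.Coprime.pow_right _ (by norm_num))) fun u hu u1 x hx => ?_)) hne
    obtain ⟨k, hk⟩ := h2 ⟨x, hx.1⟩
    exact cop (i := 2 ^ k) (j := 3) (mem_bot.2 (congrArg Subtype.val hk))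
      (mem_bot.2 ((h.h3 u (orderOf_eq_prime (e3 u hu.2) u1)).2.1 x hx.2)) (Nat.Coprime.pow_left _ (by norm_num))

omit h in
theorem core (h2 : IsPGroup 2 X) (hne : X ≠ ⊥) : Cfsg.pCore 2 𝐍[X] ≠ ⊥ := fun e => by
  have : X.subgroupOf 𝐍[X] ≤ Cfsg.pCore 2 𝐍[X] := H10.le_pCore h2.comap_subtype
  rw [e, le_bot_iff, subgroupOf_eq_bot, disjoint_iff, inf_eq_left.2 le_normalizer] at this
  exact hne this

theorem bad (h2 : IsPGroup 2 X) (hne : X ≠ ⊥) (hb : Bad 𝐍[X]) : ¬ 3 ∣ Nat.card 𝐍[X] := fun h3 => by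
  obtain ⟨m0, m1, m2, m3⟩ := h.t3 h2 hne h3
  obtain ⟨t, t1, x, x1, t2, e, x2⟩ := hb
  obtain ⟨k, hk⟩ := loc1 _ (h.c2.2 X h2 hne) (core h2 hne) m1 m2 m3 t1 t2 x1 e
  exact x2 k hk

theorem stepA (hn : ¬ ∀ t : G, orderOf t = 2 → IsPGroup 2 (centralizer ({t} : Set G))) :
    ∃ M : Subgroup G, Odd M.index ∧ ¬ 3 ∣ Nat.card M ∧ q ∣ Nat.card M ∧ Cfsg.IsOfCharacteristicTwo M ∧
      ∀ S ≤ M, IsPGroup 2 S → Odd S.index → 𝐍[S] ≤ M ∧ ∀ H : Subgroup G, S ≤ H → ¬ 3 ∣ Nat.card H →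
        Cfsg.IsOfCharacteristicTwo H → H ≤ M := by
  simp only [IsPGroup, not_forall, not_exists] at hn
  obtain ⟨t, t2, ⟨x, x1⟩, x2⟩ := hn
  have tx := mem_centralizer_singleton_iff.1 x1
  have p2 : IsPGroup 2 (zpowers t) := .of_card (n := 1) (by rw [Nat.card_zpowers, t2, pow_one])
  have t1 : zpowers t ≠ ⊥ := fun e => by
    rw [zpowers_eq_bot.1 e, orderOf_one] at t2
    exact absurd t2 (by norm_num)
  obtain ⟨⟨X, T⟩, ⟨h1, h2, h3, h4, h5⟩, mx⟩ := Set.exists_max_image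
    {p : Subgroup G × Subgroup G | IsPGroup 2 p.1 ∧ p.1 ≠ ⊥ ∧ Bad 𝐍[p.1] ∧ IsPGroup 2 p.2 ∧ p.2 ≤ 𝐍[p.1]}
    (fun p => Nat.card p.2) (Set.toFinite _) ⟨(zpowers t, zpowers t), p2, t1,
      ⟨t, le_normalizer (mem_zpowers t), x, centralizer_le_normalizer _ (mem_centralizer_iff.2 (by
        rintro _ ⟨k, rfl⟩
        exact ((show Commute x t from tx).zpow_right k).eq.symm)), t2, tx.symm,
        fun k e => x2 k (Subtype.ext e)⟩, p2, le_normalizer⟩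
  dsimp only at h1 h2 h3 h4 h5 mx
  have T0 : T ≠ ⊥ := fun e => by
    have := mx (X, X) ⟨h1, h2, h3, h1, le_normalizer⟩
    rw [e, card_bot] at this
    exact h2 ((card_le_one_iff_eq_bot _).1 this)
  have mono : ∀ {H K : Subgroup G}, H ≤ K → Bad H → Bad K := fun l ⟨t, t1, x, x1, r⟩ => ⟨t, l t1, x, l x1, r⟩
  obtain ⟨W, w1, w2, w3, w4⟩ := exW T h4 T0
  have bW : Bad 𝐍[W] := mono (w4 _ h5 (by
    by_contra e
    obtain ⟨T', a1, a2, a3, -⟩ := grow h5 h4 e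
    exact absurd (mx (X, T') ⟨h1, h2, h3, a1, a3⟩) (not_le.2 a2)) (h.bad h1 h2 h3) (h.c2.2 X h1 h2)) h3
  have w5 := h4.to_le w1
  have oT : Odd T.index := by
    by_contra e
    obtain ⟨T', a1, a2, -, a4⟩ := grow le_top h4 (by rwa [relIndex_top_right])
    exact absurd (mx (W, T') ⟨w5, w2, bW, a1, a4.trans w3⟩) (not_le.2 a2)
  have TM : T ≤ 𝐍[W] := le_normalizer.trans w3
  have n3 := h.bad w5 w2 bW
  have od : ∀ {S H : Subgroup G}, S ≤ H → Odd S.index → Odd (S.relIndex H) := fun l o =>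
    o.of_dvd_nat (relIndex_dvd_index_of_le l)
  refine ⟨𝐍[W], oT.of_dvd_nat (index_dvd_of_le TM), n3, ?_, h.c2.2 W w5 w2, fun S s1 s2 s3 => ?_⟩
  · obtain ⟨i, j, e⟩ := sub23 h.od _ n3
    obtain ⟨-, -, x, x1, -, -, x2⟩ := bW
    cases j with
    | zero => exact absurd (orderOf_dvd_iff_pow_eq_one.1
        (by simpa [e] using Subgroup.orderOf_dvd_natCard _ x1)) (x2 i)
    | succ j => rw [e]; exact Dvd.dvd.mul_left (dvd_pow_self q j.succ_ne_zero) _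
  · obtain ⟨V, v1, v2, v3, v4⟩ := exW S s2 fun e => by
      rw [e, index_bot] at s3
      exact Nat.not_even_iff_odd.2 s3 h.c2.1
    have l := v4 _ s1 (od s1 s3) n3 (h.c2.2 W w5 w2)
    have l' := w4 _ (TM.trans l) (od (TM.trans l) oT) (h.bad (s2.to_le v1) v2 (mono l bW))
      (h.c2.2 V (s2.to_le v1) v2)
    exact ⟨v3.trans l', fun H a1 a2 a3 => (v4 H a1 (od a1 s3) a2 a3).trans l'⟩

theorem stepB [IsSimpleGroup G] (hn : ¬ ∀ t : G, orderOf t = 2 → IsPGroup 2 (centralizer ({t} : Set G))) :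
    (∃ H : Subgroup G, Cfsg.IsStronglyEmbedded H) ∨ ∃ (S : Sylow 2 G) (v : ↥(S : Subgroup G)),
      orderOf v = 2 ∧ Nat.card (centralizer ({v} : Set ↥(S : Subgroup G))) = 4 := by
  obtain ⟨M, mo, m3, mq, mc, mS⟩ := h.stepA hn
  have nev : ∀ {n : ℕ}, ¬ 2 ∣ n → Odd n := fun e => Nat.not_even_iff_odd.1 fun e' => e (even_iff_two_dvd.1 e')
  rw [or_iff_not_imp_left]
  intro hse
  obtain ⟨P⟩ : Nonempty (Sylow 2 M) := inferInstance
  have Mt : M ≠ ⊤ := fun e => m3 (by rw [e, card_top, h.od.card]; exact ⟨3 * 2 ^ a * q ^ b, by ring⟩)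
  have P0 : (P : Subgroup M) ≠ ⊥ := fun e => by
    have := nev P.not_dvd_index
    rw [e, index_bot] at this
    exact Nat.not_even_iff_odd.2 (this.mul mo) (M.card_mul_index.symm ▸ h.c2.1)
  have := mt (S0214.result M Mt P P0).2 fun e => hse ⟨M, e⟩
  push Not at this
  obtain ⟨X0, x1, x2, x3⟩ := this
  have x4 : IsPGroup 2 (X0.map M.subtype) := (P.2.to_le x1).map _
  have x5 : X0.map M.subtype ≠ ⊥ := fun e => x2 ((map_eq_bot_iff_of_injective _ M.subtype_injective).1 e)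
  obtain ⟨⟨X, T⟩, ⟨h1, h2, h3, h4, h5, h6⟩, mx⟩ := Set.exists_max_image
    {p : Subgroup G × Subgroup G | IsPGroup 2 p.1 ∧ p.1 ≠ ⊥ ∧ ¬ 𝐍[p.1] ≤ M ∧ IsPGroup 2 p.2 ∧
      p.2 ≤ 𝐍[p.1] ∧ p.2 ≤ M} (fun p => Nat.card p.2) (Set.toFinite _)
    ⟨(X0.map M.subtype, X0.map M.subtype), x4, x5, x3, x4, le_normalizer, map_subtype_le _⟩
  dsimp only at h1 h2 h3 h4 h5 h6 mx
  have T0 : T ≠ ⊥ := fun e => by
    have := mx (_, _) ⟨x4, x5, x3, x4, le_normalizer, map_subtype_le _⟩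
    rw [e, card_bot] at this
    exact x5 ((card_le_one_iff_eq_bot _).1 this)
  have big : ¬ Odd T.index → ∃ T' : Subgroup G, IsPGroup 2 T' ∧ Nat.card T < Nat.card T' ∧ T' ≤ M ∧
      T' ≤ 𝐍[T] := fun e => grow h6 h4 fun e' => e (relIndex_mul_index h6 ▸ e'.mul mo)
  have nT : 𝐍[T] ≤ M := by
    by_contra e
    obtain ⟨T', a1, a2, a3, a4⟩ := big fun o => e (mS T h6 h4 o).1
    exact absurd (mx (T, T') ⟨h4, T0, e, a1, a4, a3⟩) (not_le.2 a2)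
  have key : ∀ Y : Subgroup G, IsPGroup 2 Y → Y ≠ ⊥ → ¬ 𝐍[Y] ≤ M → T ≤ 𝐍[Y] →
      ∃ Q m, PS Q T m ∧ m ∈ 𝐍[Y] ∧ 𝐍[Y] ≤ 𝐍[Q] ∧ Nat.card 𝐍[Y] = 3 * Nat.card T := fun Y y1 y2 y3 y4 => by
    have o : Odd (T.relIndex 𝐍[Y]) := by
      by_contra e
      obtain ⟨T', a1, a2, a3, a4⟩ := grow y4 h4 e
      exact absurd (mx (Y, T') ⟨y1, y2, y3, a1, a3, a4.trans nT⟩) (not_le.2 a2)
    have d3 : 3 ∣ Nat.card 𝐍[Y] := by
      by_contra e
      obtain ⟨T', a1, a2, a3, a4⟩ := big fun o => y3 ((mS T h6 h4 o).2 _ y4 e (h.c2.2 Y y1 y2))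
      obtain ⟨W, w1, w2, w3, w4⟩ := exW T h4 T0
      exact absurd (mx (W, T') ⟨h4.to_le w1, w2, fun l => y3 ((w4 _ y4 o e (h.c2.2 Y y1 y2)).trans l), a1,
        a4.trans w3, a3⟩) (not_le.2 a2)
    obtain ⟨m0, m1, m2, m4⟩ := h.t3 y1 y2 d3
    exact loc2 _ (h.c2.2 Y y1 y2) (core y1 y2) m1 m2 m4 T y4 h4 o fun e =>
      m3 (e.trans (card_dvd_of_le (inf_le_right.trans nT)))
  obtain ⟨Q, m, p, -, -, -⟩ := key X h1 h2 h3 h5
  have mM : m ∉ M := fun e => by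
    obtain ⟨⟨x, x1⟩, x2⟩ := ne_bot_iff_exists_ne_one.1 p.ne
    exact m3 (orderOf_eq_prime p.m3 (fun e => x2 (Subtype.ext (p.fpf x x1 (by simp [e])))) ▸
      Subgroup.orderOf_dvd_natCard M e)
  have nD : ∀ D : Subgroup G, Iv m D → ¬ 𝐍[D] ≤ M := fun D d l => mM (l d.nm)
  have cD : ∀ D, D ≠ ⊥ → D ≤ Q → T ≤ 𝐍[D] → Iv m D → Nat.card 𝐍[D] = 3 * Nat.card T :=
    fun D d1 d2 d3 d4 => (key D (p.q2.to_le d2) d1 (nD D d4) d3).choose_spec.choose_spec.2.2.2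
  have TQ : T ≤ 𝐍[Q] := fun g hg => (p.ivT hg).nm
  suffices e : Z Q = Q ∧ Nat.card Q ≤ 4 by
    refine p.fin e.1 e.2 ?_
    have := cm' TQ
    rw [cD Q p.ne le_rfl TQ p.nm, mul_comm 3] at this
    rw [Nat.eq_of_mul_eq_mul_left Nat.card_pos this]
    decide
  by_cases o : Odd T.index
  · obtain ⟨R0, r1, r2, r3, r4⟩ := ch2' M mc
    have hq := h.od.hq
    refine Am.c2 (M0 := M) (R0 := R0) (q := q) ⟨p, o, hq, hq.five_le_of_ne_two_of_ne_three h.od.hq2 h.od.hq3,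
      h6, m3, fun K l => sub23 h.od K fun e => m3 (e.trans (card_dvd_of_le l)), mq, r2, r3, r4,
      fun D d1 d2 d3 d4 e => ?_⟩
    obtain ⟨n, hn⟩ := h4.exists_card_eq
    rw [cD D d1 d2 d3 d4, hn] at e
    exact (hq.dvd_mul.1 e).elim (fun e => h.od.hq3 ((Nat.prime_dvd_prime_iff_eq hq Nat.prime_three).1 e))
      fun e => h.od.hq2 ((Nat.prime_dvd_prime_iff_eq hq Nat.prime_two).1 (hq.dvd_of_dvd_pow e))
  · obtain ⟨T', a1, a2, a3, a4⟩ := big o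
    by_contra e
    exact absurd (mx (Q, T') ⟨p.q2, p.ne, nD Q p.nm, a1,
      fun g hg => Iv.nm (by_contra fun c => e (p.c1 (a4 hg) c)), a3⟩) (not_le.2 a2)

end HY

end Cfsg.Agent.C33
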