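import Cfsg.Agent.C33.A
import Cfsg.Agent.S3779

/-! Fixed-point-free action of an element of order three on a `2`-group -/

set_option autoImplicit false

namespace Cfsg.Agent.C33

open Subgroup
open scoped commutatorElement

variable {G : Type*} [Group G] [Finite G] {Q T : Subgroup G} {m : G}

namespace PS

omit [Finite G] in
theorem minv (h : PS Q T m) : m⁻¹ = m * m := by
  have := h.m3
  rw [pow_three] at this
  exact inv_eq_of_mul_eq_one_right this

omit [Finite G] in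
theorem iv_inv (h : PS Q T m) {D : Subgroup G} (iD : Iv m D) : Iv m⁻¹ D := fun x hx => by
  have := iD _ (iD x hx)
  rw [h.minv]
  convert this using 1
  group

/-- every element of `Q m` is `Q`-conjugate to `m` -/
theorem cj (h : PS Q T m) {x : G} (hx : x ∈ Q) : ∃ u ∈ Q, x * m = u⁻¹ * m * u := by
  let f : Q → Q := fun u => ⟨(u : G)⁻¹ * (m * (u : G) * m⁻¹), mul_mem (inv_mem u.2) (h.nm _ u.2)⟩
  have inj : Function.Injective f := fun u v e => by
    have e1 : (u : G)⁻¹ * (m * (u : G) * m⁻¹) = (v : G)⁻¹ * (m * (v : G) * m⁻¹) :=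
      congrArg Subtype.val e
    have := h.fpf ((v : G) * (u : G)⁻¹) (mul_mem v.2 (inv_mem u.2)) (by
      calc m * ((v : G) * (u : G)⁻¹) * m⁻¹
          = v * ((v : G)⁻¹ * (m * (v : G) * m⁻¹)) * (m * (u : G) * m⁻¹)⁻¹ := by group
        _ = v * (u : G)⁻¹ := by rw [← e1]; group)
    exact Subtype.ext (mul_inv_eq_one.1 this).symm
  obtain ⟨u, hu⟩ := Finite.surjective_of_injective inj ⟨x, hx⟩
  have e1 : (u : G)⁻¹ * (m * (u : G) * m⁻¹) = x := congrArg Subtype.val hu
  exact ⟨u, u.2, by rw [← e1]; group⟩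

theorem cube (h : PS Q T m) {x : G} (hx : x ∈ Q) : (x * m) ^ 3 = 1 := by
  obtain ⟨u, -, e⟩ := h.cj hx
  have := conj_pow (a := u⁻¹) (b := m) (i := 3)
  rw [inv_inv, h.m3] at this
  rw [e, this]; group

theorem tr (h : PS Q T m) {x : G} (hx : x ∈ Q) :
    x * (m * x * m⁻¹) * (m * (m * x * m⁻¹) * m⁻¹) = 1 := by
  have := h.cube hx
  calc _ = (x * m) ^ 3 * (m ^ 3)⁻¹ := by simp only [pow_three]; group
    _ = 1 := by rw [this, h.m3]; group

omit [Finite G] in
theorem nT (h : PS Q T m) {y : G} (hy : y ∈ T) : Iv y Q := fun x hx => by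
  haveI := normal_of_index_eq_two (H := Q.subgroupOf T) h.idx
  exact mem_subgroupOf.1 (this.conj_mem ⟨x, h.le hx⟩ (mem_subgroupOf.2 hx) ⟨y, hy⟩)

end PS

theorem cent (h : PS Q T m) {a b : G} (ha : a ∈ Q) (hb : b ∈ Q) (e : a * b = b * a) :
    a * (m * b * m⁻¹) = (m * b * m⁻¹) * a := by
  have h1 := h.tr ha
  have h2 := h.tr hb
  have h3 := h.tr (mul_mem ha hb)
  have e' : m * a * m⁻¹ * (m * b * m⁻¹) = m * b * m⁻¹ * (m * a * m⁻¹) := by
    rw [conj_mul, conj_mul, e]
  rw [← conj_mul (b := m) (a := a) (c := b), ← conj_mul (b := m) (a := m * a * m⁻¹),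
    eq_inv_of_mul_eq_one_right h1, eq_inv_of_mul_eq_one_right h2] at h3
  generalize m * a * m⁻¹ = a' at *
  generalize m * b * m⁻¹ = b' at *
  have h4 : b * (a * b' * a') = b * (b' * a * a') := by
    calc b * (a * b' * a') = a * b * (a' * b') := by rw [e, e']; group
      _ = a * b * (a' * b') * ((a * a')⁻¹ * (b * b')⁻¹) * (b * (b' * a * a')) := by group
      _ = _ := by rw [h3, one_mul]
  exact mul_right_cancel (mul_left_cancel h4)

theorem cls2 (h : PS Q T m) {a b c : G} (ha : a ∈ Q) (hb : b ∈ Q) (hc : c ∈ Q) :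
    ⁅a, b⁆ * c = c * ⁅a, b⁆ := by
  haveI : Fact (Nat.Prime 3) := ⟨Nat.prime_three⟩
  have hn : m ∈ normalizer (Q : Set G) := mem_normalizer_fintype h.nm
  let α : MulAut Q := Q.normalizerMonoidHom ⟨m, hn⟩
  have hα : ∀ x : Q, (α x : G) = m * x * m⁻¹ := fun x => rfl
  have fp : ∀ x : Q, α x = x → x = 1 := fun x e =>
    Subtype.ext (h.fpf x x.2 ((hα x).symm.trans (congrArg Subtype.val e)))
  have ho : orderOf α = 3 := orderOf_eq_prime (by
      rw [← map_pow, show (⟨m, hn⟩ : normalizer (Q : Set G)) ^ 3 = 1 from Subtype.ext h.m3,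
        map_one])
    fun e => h.ne (eq_bot_iff.2 fun x hx =>
      congrArg Subtype.val (fp ⟨x, hx⟩ (by rw [e]; rfl)))
  have h1 := (S3779.result Nat.prime_three α ho fp).2.1 rfl
  have h2 : ⁅⁅(⟨a, ha⟩ : Q), (⟨b, hb⟩ : Q)⁆, (⟨c, hc⟩ : Q)⁆ ∈
      (⊤ : Subgroup Q).lowerCentralSeries 2 :=
    commutator_mem_commutator (commutator_mem_commutator (mem_top _) (mem_top _)) (mem_top _)
  rw [h1, mem_bot, commutatorElement_eq_one_iff_mul_comm] at h2
  exact congrArg Subtype.val h2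

theorem idx2 (h : PS Q T m) {W D : Subgroup G} (hW : W ≤ Q) (hD : D ≤ W) (iW : Iv m W)
    (iD : Iv m D) (hi : D.relIndex W ≤ 2) : D = W := by
  have h0 : D.relIndex W ≠ 0 := index_ne_zero_of_finite
  rcases (by omega : D.relIndex W = 1 ∨ D.relIndex W = 2) with e | e
  · exact le_antisymm hD (relIndex_eq_one.1 e)
  refine le_antisymm hD fun x hx => ?_
  by_contra hx'
  have back : ∀ z, m * z * m⁻¹ ∈ D → z ∈ D := fun z hz => by
    simpa [mul_assoc] using h.iv_inv iD _ hz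
  have h1 : x * (m * x * m⁻¹) ∈ D := mem_subgroupOf.1 ((mul_mem_iff_of_index_two e
    (a := ⟨x, hx⟩) (b := ⟨_, iW x hx⟩)).2 (iff_of_false hx' fun e' => hx' (back _ e')))
  rw [eq_inv_of_mul_eq_one_left (h.tr (hW hx))] at h1
  exact hx' (back _ (back _ (inv_mem_iff.1 h1)))

theorem gen (h : PS Q T m) {y : G} (hy : y ∈ T) (hy' : y ∉ Q) {D : Subgroup G} (hD : D ≤ Q)
    (iD : Iv m D) (hc : ∀ x ∈ Q, ⁅x, y⁆ ∈ D) : D = Q := by
  have h1 : ∀ x ∈ Q, ⁅x, y⁻¹⁆ ∈ D := fun x hx => by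
    have := inv_mem (hc _ (h.nT (inv_mem hy) x hx))
    convert this using 1
    simp only [commutatorElement_def]; group
  have h2 : ∀ x ∈ Q, ⁅x, y * (m * y⁻¹ * m⁻¹)⁆ ∈ D := fun x hx => by
    have a1 := h.iv_inv h.nm x hx
    have := mul_mem (iD _ (h1 _ a1)) (hc _ (h.nm _ (h.nT (inv_mem hy) _ a1)))
    convert this using 1
    simp only [commutatorElement_def]; group
  refine le_antisymm hD fun z hz => ?_
  have hu := h.inv y hy hy'
  have hn : y * (m * y⁻¹ * m⁻¹) = y * m * y⁻¹ * m * m := by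
    have := h.m3
    calc _ = y * m * y⁻¹ * m⁻¹ * m ^ 3 := by rw [this]; group
      _ = _ := by rw [pow_three]; group
  obtain ⟨a, ha, e1⟩ := h.cj hu
  obtain ⟨b, hb, e2⟩ := h.cj (mul_mem hz hu)
  have := h2 _ (mul_mem (inv_mem hb) ha)
  rw [hn, commutatorElement_def] at this
  convert this using 1
  calc z = z * (y * m * y⁻¹ * m) * m * (y * m * y⁻¹ * m * m)⁻¹ := by group
    _ = b⁻¹ * a * (a⁻¹ * m * a) * (b⁻¹ * a)⁻¹ * (y * m * y⁻¹ * m * m)⁻¹ := by rw [e2]; group
    _ = _ := by rw [← e1]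

theorem half (h : PS Q T m) {y : G} (hy : y ∈ T) (hy' : y ∉ Q) {W V C : Subgroup G} (hW : W ≤ Q)
    (_hV : V ≤ C) (hC : C ≤ W) (iW : Iv m W) (iV : Iv m V) (nV : ∀ g ∈ T, Iv g V)
    (tr : ∀ x ∈ W, ∀ u ∈ Q, ⁅x, u⁆ ∈ V) (hc : ∀ c ∈ C, ⁅c, y⁆ ∈ V) :
    Nat.card C ^ 2 ≤ Nat.card W * Nat.card V := by
  have key : ∀ c ∈ C, m⁻¹ * c * m ∈ C → c ∈ V := by
    intro c c1 c2
    have cT : c ∈ T := h.le (hW (hC c1))
    have nT : ∀ g ∈ T, g ∈ normalizer (V : Set G) := fun g hg => mem_normalizer_fintype (nV g hg)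
    have nm : m ∈ normalizer (V : Set G) := mem_normalizer_fintype iV
    set N := normalizer (V : Set G)
    let π := QuotientGroup.mk' (V.subgroupOf N)
    have cm : ∀ a b : N, ⁅(a : G), (b : G)⁆ ∈ V → Commute (π a) (π b) := fun a b e => by
      rw [← commutatorElement_eq_one_iff_commute, ← map_commutatorElement]
      exact (QuotientGroup.eq_one_iff _).2 (mem_subgroupOf.2 e)
    let c' : N := ⟨c, nT c cT⟩
    let y' : N := ⟨y, nT y hy⟩
    let m' : N := ⟨m, nm⟩
    have a1 := cm c' y' (hc c c1)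
    have a2 := cm c' (m' * y' * m'⁻¹) (by
      have := iV _ (hc _ c2)
      convert this using 1
      simp only [commutatorElement_def, c', y', m', coe_mul, coe_inv]; group)
    have a3 := cm c' (y' * m' * y'⁻¹ * m') (tr c (hC c1) _ (h.inv y hy hy'))
    have m3 : m' ^ 3 = 1 := Subtype.ext h.m3
    have a4 : Commute (π c') (π m') := by
      have := a3.inv_right.mul_right (a1.mul_right a2.inv_right)
      rw [← map_inv, ← map_inv, ← map_mul, ← map_mul] at this
      have e : (y' * m' * y'⁻¹ * m')⁻¹ * (y' * (m' * y' * m'⁻¹)⁻¹) = m' := by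
        have hm : m'⁻¹ * m'⁻¹ = m' := by
          calc _ = m' * (m' ^ 3)⁻¹ := by rw [pow_three]; group
            _ = m' := by rw [m3]; group
        rw [← hm]
        conv_lhs => rw [hm]
        group
      rwa [e] at this
    have a5 : (c' * m') ^ 3 = 1 := Subtype.ext (h.cube (hW (hC c1)))
    have a6 : π c' ^ 3 = 1 := by
      have := congrArg π a5
      rwa [map_pow, map_mul, a4.mul_pow, ← map_pow π m', m3, map_one, mul_one] at this
    obtain ⟨k, hk⟩ := h.two ⟨c, cT⟩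
    have a7 : π c' ^ 2 ^ k = 1 := by
      rw [← map_pow, show c' ^ 2 ^ k = 1 from Subtype.ext (congrArg (fun a : T => (a : G)) hk), map_one]
    have a8 : π c' = 1 := by
      have := Nat.dvd_gcd (orderOf_dvd_of_pow_eq_one a6) (orderOf_dvd_of_pow_eq_one a7)
      rw [Nat.Coprime.pow_right k (by norm_num : Nat.Coprime 3 2), Nat.dvd_one] at this
      exact orderOf_eq_one_iff.1 this
    exact mem_subgroupOf.1 ((QuotientGroup.eq_one_iff _).1 a8)
  set C' := C.map (MulAut.conj m).toMonoidHom with hC'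
  have b1 : Nat.card C' = Nat.card C := card_map_of_injective (MulAut.conj m).injective
  have b2 : C' ≤ W := by
    rintro _ ⟨x, hx, rfl⟩
    exact iW x (hC hx)
  have b3 : C.relIndex C' ≤ C.relIndex W := relIndex_le_of_le_right b2 index_ne_zero_of_finite
  have b4 : Nat.card (C.subgroupOf C') * C.relIndex C' = Nat.card C' := card_mul_index _
  have b5 : Nat.card (C.subgroupOf W) * C.relIndex W = Nat.card W := card_mul_index _
  rw [Nat.card_congr (subgroupOfEquivOfLe hC).toEquiv] at b5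
  have b6 : Nat.card (C.subgroupOf C') ≤ Nat.card V :=
    Nat.card_le_card_of_injective (fun x => ⟨x.1.1, key _ (mem_subgroupOf.1 x.2) (by
      obtain ⟨z, hz, e⟩ := x.1.2
      rw [← e]
      simpa [mul_assoc] using hz)⟩) fun x z e =>
        Subtype.ext (Subtype.ext (congrArg (fun a : V => (a : G)) e))
  calc Nat.card C ^ 2 = Nat.card C * (Nat.card (C.subgroupOf C') * C.relIndex C') := by
        rw [b4, b1, sq]
    _ ≤ Nat.card C * (Nat.card V * C.relIndex W) := Nat.mul_le_mul_left _ (Nat.mul_le_mul b6 b3)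
    _ = Nat.card W * Nat.card V := by rw [← b5]; ring

end Cfsg.Agent.C33
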